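import Mathlib
import Cfsg.Agent.Lib.Helper10.SWDefs

/-!
# Sims–Wong pieces: small shared lemmas about `Nrm`
-/

set_option autoImplicit false

namespace Cfsg.Agent.Lib.Helper57.SWAux

open Pointwise Cfsg.Agent.Lib.Helper10.SWDefs

universe u

variable {G : Type u} [Group G]

theorem nrm_le_normalizer {P N : Subgroup G} (h : Nrm P N) : P ≤ Subgroup.normalizer (N : Set G) := by
  intro p hp
  rw [Subgroup.mem_normalizer_iff]
  intro x
  have h1 := h p hp
  constructor
  · intro hx
    have : p * x * p⁻¹ ∈ MulAut.conj p • N := conj_mem_conj_smul hx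
    rwa [h1] at this
  · intro hx
    rw [← h1, mem_conj_smul] at hx
    have h2 : p⁻¹ * (p * x * p⁻¹) * p = x := by group
    rwa [h2] at hx

theorem nrm_of_le_normalizer {P N : Subgroup G} (h : P ≤ Subgroup.normalizer (N : Set G)) : Nrm P N := by
  intro p hp
  have h1 := h hp
  rw [Subgroup.mem_normalizer_iff] at h1
  ext x
  rw [mem_conj_smul]
  have h2 := h1 (p⁻¹ * x * p)
  have h3 : p * (p⁻¹ * x * p) * p⁻¹ = x := by group
  rw [h3] at h2
  exact h2

theorem nrm_iff {P N : Subgroup G} : Nrm P N ↔ P ≤ Subgroup.normalizer (N : Set G) :=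
  ⟨nrm_le_normalizer, nrm_of_le_normalizer⟩

theorem normal_of_nrm_sup {P P' N : Subgroup G} (h : Nrm P N) (h' : Nrm P' N)
    (hsup : P ⊔ P' = ⊤) : N.Normal := by
  rw [← Subgroup.normalizer_eq_top_iff, eq_top_iff, ← hsup]
  exact sup_le (nrm_le_normalizer h) (nrm_le_normalizer h')

theorem card_mul_relIndex {L P : Subgroup G} (h : L ≤ P) :
    Nat.card L * L.relIndex P = Nat.card P := by
  have := Subgroup.relIndex_mul_relIndex (⊥ : Subgroup G) L P bot_le h
  rwa [Subgroup.relIndex_bot_left, Subgroup.relIndex_bot_left] at this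

end Cfsg.Agent.Lib.Helper57.SWAux
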