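import Mathlib
import Cfsg.Agent.Lib.Helper10.SWDefs
import Cfsg.Agent.Lib.Helper57.SWAux

/-!
# Sims–Wong piece C0: all lines normal
-/

set_option autoImplicit false

namespace Cfsg.Agent.Lib.Helper57.SWC0

open Pointwise Cfsg.Agent.Lib.Helper10.SWDefs Cfsg.Agent.Lib.Helper57.SWAux

universe u

theorem main : StC0.{u} := by
  intro G _ _ H hcfg _ hNN
  obtain ⟨g, hg⟩ := hcfg.adj
  have hgH : g ∉ H := by
    intro hgH
    have h1 : MulAut.conj g • H = H := Subgroup.conj_smul_eq_self_of_mem hgH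
    rw [h1, inf_idem, Subgroup.relIndex_self] at hg
    omega
  have hLH : IsLine H (H ⊓ MulAut.conj g • H) := ⟨inf_le_left, hg⟩
  have hnH : Nrm H (H ⊓ MulAut.conj g • H) := by
    by_contra h
    exact hNN ⟨_, hLH, h⟩
  have hcard : Nat.card (MulAut.conj g • H : Subgroup G) = Nat.card H := card_conj_smul g H
  have h1 := card_mul_relIndex (inf_le_left : H ⊓ MulAut.conj g • H ≤ H)
  have h2 := card_mul_relIndex (inf_le_right : H ⊓ MulAut.conj g • H ≤ MulAut.conj g • H)
  have hLpos : 0 < Nat.card (H ⊓ MulAut.conj g • H : Subgroup G) := Nat.card_pos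
  have hLP' : IsLine (MulAut.conj g • H) (H ⊓ MulAut.conj g • H) := by
    refine ⟨inf_le_right, ?_⟩
    have h3 : Nat.card (H ⊓ MulAut.conj g • H : Subgroup G)
          * (H ⊓ MulAut.conj g • H).relIndex (MulAut.conj g • H)
        = Nat.card (H ⊓ MulAut.conj g • H : Subgroup G) * 3 := by
      rw [h2, hcard, ← h1, hg]
    exact Nat.eq_of_mul_eq_mul_left hLpos h3
  have hnP' : Nrm (MulAut.conj g • H) (H ⊓ MulAut.conj g • H) := by
    have hline : IsLine H (MulAut.conj g⁻¹ • (H ⊓ MulAut.conj g • H)) := by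
      have := isLine_conj g⁻¹ hLP'
      rwa [conj_inv_smul] at this
    have hn : Nrm H (MulAut.conj g⁻¹ • (H ⊓ MulAut.conj g • H)) := by
      by_contra h
      exact hNN ⟨_, hline, h⟩
    have := nrm_conj g hn
    rwa [conj_smul_inv] at this
  have hnormal : (H ⊓ MulAut.conj g • H).Normal := normal_of_nrm_sup hnH hnP' (hcfg.gen g hgH)
  have hLbot : H ⊓ MulAut.conj g • H = ⊥ := hcfg.core _ hnormal inf_le_left
  have hH3 : Nat.card H = 3 := by
    rw [← h1, hg, hLbot, Subgroup.card_bot]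
  have : Fact (Nat.Prime 3) := ⟨by norm_num⟩
  have hZ3 : Nat.card (Multiplicative (ZMod 3)) = 3 := by
    rw [Nat.card_eq_fintype_card, Fintype.card_multiplicative, ZMod.card]
  exact ⟨mulEquivOfPrimeCardEq hH3 hZ3⟩

end Cfsg.Agent.Lib.Helper57.SWC0
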