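import Mathlib
import Cfsg.Agent.Lib.Helper10.SWDefs
import Cfsg.Agent.Lib.Helper57.SWAux

/-!
# Sims–Wong piece C1: an adjacent pair with the same `Qs`
-/

set_option autoImplicit false

namespace Cfsg.Agent.Lib.Helper57.SWC1

open Pointwise Cfsg.Agent.Lib.Helper10.SWDefs Cfsg.Agent.Lib.Helper57.SWAux

universe u

theorem main : StC1.{u} := by
  intro hISO G _ _ H hB hex
  obtain ⟨P, P', hP, hP', hadj, hQ⟩ := hex
  have hline : IsLine P (P ⊓ P') := hB.adj_line P P' hP hP' hadj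
  have hQP : Qs P ≤ P := le_trans (Qs_le_line hline) hline.1
  have hn1 : Nrm P (Qs P) := hB.q_nrm P hP
  have hn2 : Nrm P' (Qs P) := by rw [hQ]; exact hB.q_nrm P' hP'
  have hnormal : (Qs P).Normal := normal_of_nrm_sup hn1 hn2 (hB.gen P P' hP hP' hadj.1)
  have hbot : Qs P = ⊥ := hB.core P (Qs P) hP hQP hnormal
  have hS2 : Nat.card (P ⊓ P' : Subgroup G) = 2 := by
    have := hB.q_index P (P ⊓ P') hP hline
    rwa [hbot, Subgroup.relIndex_bot_left] at this
  have hP6 : Nat.card P = 6 := by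
    have := card_mul_relIndex hline.1
    rw [hS2, hline.2] at this
    omega
  have hidx : ((P ⊓ P').subgroupOf P).index = 3 := hline.2
  have hnn : ¬ ((P ⊓ P').subgroupOf P).Normal := by
    intro hN
    have hall : ∀ p ∈ P, p ∈ P ⊓ P' := by
      intro p hp
      apply hB.line_self_norm P (P ⊓ P') hP hline p hp
      apply le_antisymm
      · intro x hx
        rw [mem_conj_smul] at hx
        have hyP : p⁻¹ * x * p ∈ P := hline.1 hx
        have h1 := hN.conj_mem ⟨p⁻¹ * x * p, hyP⟩ (Subgroup.mem_subgroupOf.mpr hx) ⟨p, hp⟩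
        rw [Subgroup.mem_subgroupOf] at h1
        have h2 : p * (p⁻¹ * x * p) * p⁻¹ = x := by group
        have h3 : ((⟨p, hp⟩ * ⟨p⁻¹ * x * p, hyP⟩ * (⟨p, hp⟩ : P)⁻¹ : P) : G)
            = p * (p⁻¹ * x * p) * p⁻¹ := rfl
        rw [h3, h2] at h1
        exact h1
      · intro x hx
        rw [mem_conj_smul]
        have hxP : x ∈ P := hline.1 hx
        have h1 := hN.conj_mem ⟨x, hxP⟩ (Subgroup.mem_subgroupOf.mpr hx) ⟨p⁻¹, P.inv_mem hp⟩
        rw [Subgroup.mem_subgroupOf] at h1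
        have h3 : ((⟨p⁻¹, P.inv_mem hp⟩ * ⟨x, hxP⟩ * (⟨p⁻¹, P.inv_mem hp⟩ : P)⁻¹ : P) : G)
            = p⁻¹ * x * p⁻¹⁻¹ := rfl
        rw [h3, inv_inv] at h1
        exact h1
    have hle : P ≤ P ⊓ P' := hall
    have h4 := (Subgroup.relIndex_eq_one).mpr hle
    rw [hline.2] at h4
    omega
  obtain ⟨e⟩ := hISO (↥P) ((P ⊓ P').subgroupOf P) hP6 hidx hnn
  obtain ⟨g, rfl⟩ := hP
  exact ⟨(Subgroup.equivSMul (MulAut.conj g) H).trans e⟩

end Cfsg.Agent.Lib.Helper57.SWC1
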