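import Mathlib
import Cfsg.Agent.Lib.Helper10.SWDefs
import Cfsg.Agent.Lib.Helper57.SWAux

/-!
# Sims–Wong piece WF: some walk is bad
-/

set_option autoImplicit false

namespace Cfsg.Agent.Lib.Helper57.SWWF

open Pointwise Cfsg.Agent.Lib.Helper10.SWDefs Cfsg.Agent.Lib.Helper57.SWAux

universe u

theorem main : StWF.{u} := by
  intro G _ _ H hB hZ
  by_contra hcon
  push Not at hcon
  let r : Subgroup G → Subgroup G → Prop := fun P P' => IsPt H P ∧ IsPt H P' ∧ Adj P P'
  have hsymm : ∀ P P', r P P' → r P' P :=
    fun P P' h => ⟨h.2.1, h.1, hB.adj_symm P P' h.1 h.2.1 h.2.2⟩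
  have hrsymm : ∀ P P', Relation.ReflTransGen r P P' → Relation.ReflTransGen r P' P := by
    intro P P' h
    induction h with
    | refl => exact Relation.ReflTransGen.refl
    | @tail b c _ hbc ih => exact Relation.ReflTransGen.head (hsymm b c hbc) ih
  have hwalk : ∀ P, Relation.ReflTransGen r H P →
      ∃ (n : ℕ) (x : ℕ → Subgroup G), IsWalk H x n ∧ x 0 = H ∧ x n = P := by
    intro P hP
    induction hP with
    | refl =>
      exact ⟨0, fun _ => H, ⟨fun _ _ => isPt_self H, fun i hi => absurd hi (Nat.not_lt_zero i)⟩,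
        rfl, rfl⟩
    | @tail b c hab hbc ih =>
      obtain ⟨n, x, hw, h0, hn⟩ := ih
      refine ⟨n + 1, fun i => if i ≤ n then x i else c, ⟨?_, ?_⟩, ?_, ?_⟩
      · intro i hi
        by_cases h : i ≤ n
        · simp only [h, if_true]; exact hw.1 i h
        · simp only [h, if_false]; exact hbc.2.1
      · intro i hi
        by_cases h : i < n
        · have h1 : i ≤ n := le_of_lt h
          have h2 : i + 1 ≤ n := h
          simp only [h1, h2, if_true]
          exact hw.2 i h
        · have h1 : i = n := by omega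
          subst h1
          have h2 : ¬ (i + 1 ≤ i) := by omega
          simp only [le_refl, if_true, h2, if_false]
          rw [hn]; exact hbc.2.2
      · simp [h0]
      · simp
  have hreach_le : ∀ P, Relation.ReflTransGen r H P → Zs H ≤ P := by
    intro P hP
    obtain ⟨n, x, hw, h0, hn⟩ := hwalk P hP
    have h1 : Zs (x 0) ≤ Qs (x n) := by
      by_contra h
      exact hcon n ⟨x, hw, h⟩
    rw [h0, hn] at h1
    have hPt : IsPt H P := hn ▸ hw.1 n le_rfl
    obtain ⟨P', hP', hadj⟩ := hB.ex_adj P hPt
    have hline := hB.adj_line P P' hPt hP' hadj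
    exact le_trans h1 (le_trans (Qs_le_line hline) hline.1)
  obtain ⟨P1, hP1, hadj1⟩ := hB.ex_adj H (isPt_self H)
  have hgen : H ⊔ P1 = ⊤ := hB.gen H P1 (isPt_self H) hP1 hadj1.1
  have hall : ∀ g : G, Relation.ReflTransGen r H (MulAut.conj g • H) := by
    intro g
    have hg : g ∈ Subgroup.closure ((H : Set G) ∪ (P1 : Set G)) := by
      rw [Subgroup.closure_union, Subgroup.closure_eq, Subgroup.closure_eq, hgen]
      trivial
    induction hg using Subgroup.closure_induction with
    | mem x hx =>
      rcases hx with hx | hx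
      · rw [Subgroup.conj_smul_eq_self_of_mem hx]
      · have h1 : r H P1 := ⟨isPt_self H, hP1, hadj1⟩
        have h2 : r P1 (MulAut.conj x • H) := by
          have h3 := adj_conj x (hB.adj_symm H P1 (isPt_self H) hP1 hadj1)
          rw [Subgroup.conj_smul_eq_self_of_mem hx] at h3
          exact ⟨hP1, isPt_conj (isPt_self H) x, h3⟩
        exact Relation.ReflTransGen.tail (Relation.ReflTransGen.single h1) h2
    | one => rw [conj_one_smul]
    | mul x y _ _ hx hy =>
      have h1 : Relation.ReflTransGen r (MulAut.conj x • H)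
          (MulAut.conj x • MulAut.conj y • H) := by
        refine Relation.ReflTransGen.lift (fun K => MulAut.conj x • K) (fun a b hab => ?_) _ _ hy
        exact ⟨isPt_conj hab.1 x, isPt_conj hab.2.1 x, adj_conj x hab.2.2⟩
      rw [conj_mul_smul] at h1
      exact hx.trans h1
    | inv x _ hx =>
      have h1 : Relation.ReflTransGen r (MulAut.conj x⁻¹ • H)
          (MulAut.conj x⁻¹ • MulAut.conj x • H) := by
        refine Relation.ReflTransGen.lift (fun K => MulAut.conj x⁻¹ • K) (fun a b hab => ?_) _ _ hx
        exact ⟨isPt_conj hab.1 x⁻¹, isPt_conj hab.2.1 x⁻¹, adj_conj x⁻¹ hab.2.2⟩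
      rw [conj_inv_smul] at h1
      exact hrsymm _ _ h1
  have hcore : Zs H ≤ H.normalCore := by
    intro z hz b
    have h1 := hreach_le _ (hall b⁻¹) hz
    rw [mem_conj_smul, inv_inv] at h1
    exact h1
  have hbot : H.normalCore = ⊥ :=
    hB.core H _ (isPt_self H) (Subgroup.normalCore_le H) (Subgroup.normalCore_normal H)
  have h0 : Zs H = ⊥ := by rw [eq_bot_iff, ← hbot]; exact hcore
  exact hZ.z_ne H (isPt_self H) h0

end Cfsg.Agent.Lib.Helper57.SWWF
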