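import Mathlib
import Cfsg.Agent.Lib.Helper25.ACStmt
import Cfsg.Agent.Lib.Helper25.ACOddStmt

/-!
helper57: S3911/MINCASE.
-/

set_option autoImplicit false

namespace Cfsg.Agent.Lib.Helper57.AOMINCASE

open Cfsg.Agent.Lib.Helper25.ACStmt Cfsg.Agent.Lib.Helper25.ACOddStmt

universe u

theorem main (hH : MinHall.{u}) (hPG : PGroupCase.{u}) (hCop : CopCase.{u}) : MinCase.{u} := by
  intro G _ _ hB M hMn hMne hodd hmin
  rcases hH G hB M hMn hMne hodd hmin with ⟨p, hp, hpg⟩ | hcop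
  · haveI : Fact p.Prime := ⟨hp⟩
    have hp2 : p ≠ 2 := by
      rintro rfl
      obtain ⟨k, hk⟩ := IsPGroup.iff_card.mp hpg
      have hk0 : k ≠ 0 := by
        rintro rfl
        apply hMne
        exact Subgroup.card_eq_one.mp (by simpa using hk)
      rw [hk] at hodd
      exact (Nat.not_even_iff_odd.mpr hodd) (even_iff_two_dvd.mpr (dvd_pow_self 2 hk0))
    exact hPG G hB p hp2 M hMn hpg hMne
  · exact ⟨M, hMn, hMne, le_rfl, @hCop G _ _ hB M hMn hcop⟩

end Cfsg.Agent.Lib.Helper57.AOMINCASE
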