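import Mathlib
import Cfsg.Agent.Lib.Helper25.ACStmt
import Cfsg.Agent.Lib.Helper25.ACOddStmt

/-!
helper57: S3911/SYLIN.
-/

set_option autoImplicit false

namespace Cfsg.Agent.Lib.Helper57.AOSYLIN

open Cfsg.Agent.Lib.Helper25.ACStmt Cfsg.Agent.Lib.Helper25.ACOddStmt

universe u

theorem main (hExp : ExpIn.{u}) (hSU : SylUniq.{u}) (hCyc : CycOdd.{u}) (hPC : PCompl.{u}) :
    SylIn.{u} := by
  intro G _ _ hB M hMn hodd hmin p _ hpM P
  have hp : p.Prime := Fact.out
  by_cases hexp : ∀ x ∈ (P : Subgroup G), x ^ p = 1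
  · exact Or.inl (hExp G hB M hMn p hpM P hexp)
  · by_cases hPM : (P : Subgroup G) ≤ M
    · exact Or.inl hPM
    · right
      have hex : ∃ x ∈ (P : Subgroup G), x ^ p ≠ 1 := by
        by_contra hne
        exact hexp (fun x hx => by
          by_contra hx1
          exact hne ⟨x, hx, hx1⟩)
      obtain ⟨Z₀, hZP, hZc, hZu⟩ := hSU G hB p P hex
      have hp2 : p ≠ 2 := by
        rintro rfl
        exact (Nat.not_even_iff_odd.mpr hodd) (even_iff_two_dvd.mpr hpM)
      -- `↥P` is cyclic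
      have hcyc : IsCyclic ↥(P : Subgroup G) := by
        refine hCyc ↥(P : Subgroup G) p hp2 P.isPGroup' (Z₀.subgroupOf (P : Subgroup G)) ?_ ?_
        · rw [Nat.card_congr (Subgroup.subgroupOfEquivOfLe hZP).toEquiv, hZc]
        · intro x hx
          rw [Subgroup.mem_subgroupOf]
          exact hZu (x : G) x.2 (by rw [Subgroup.orderOf_coe]; exact hx)
      obtain ⟨K, hKn, hKM, hKp, j, hj⟩ := hPC G p P hcyc M hMn hPM
      rcases hmin K hKn hKM with hK | hK
      · rw [hK, Subgroup.card_bot, one_mul] at hj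
        exact IsPGroup.of_card hj
      · exfalso
        rw [hK] at hKp
        exact ((Nat.Prime.coprime_iff_not_dvd hp).mp hKp.symm) hpM

end Cfsg.Agent.Lib.Helper57.AOSYLIN
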