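import Mathlib
import Cfsg.Agent.Lib.Helper32.D8Stmt
import Cfsg.Agent.Lib.CT.FrobRec

/-! S3716 piece CROSS: the mixed inner products, from IP (both sides, via DUAL) and the values
VALA, VALB, VALD. -/

set_option autoImplicit false

namespace Cfsg.Agent.Lib.Helper57.D8CROSS

open Cfsg Cfsg.Agent.Lib.CT
open Cfsg.Agent.Lib.Helper32
open scoped ComplexConjugate

universe u

theorem main (hIP : D8Stmt.IP.{u}) (hDUAL : D8Stmt.DUAL.{u}) (hVALA : D8Stmt.VALA.{u})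
    (hVALB : D8Stmt.VALB.{u}) (hVALD : D8Stmt.VALD.{u}) : D8Stmt.CROSS.{u} := by
  intro G _ _ T N x y a b w hc f g hOm f' g' hOm'
  have hd := (hDUAL hc).1
  obtain ⟨a1, a2, a3, a4⟩ := hVALA hc f g hOm
  obtain ⟨b1, b2, b3, b4⟩ := hVALB hc f g hOm
  obtain ⟨d1, d2, d3, d4, d5, d6⟩ := hVALD hc f' g' hOm'
  have hcl1 : IsClassFunction G (D8Stmt.th1 x f) := FrobRec.indFun_isClassFunction _ _
  have hcl2 : IsClassFunction G (D8Stmt.th2 x f g) := FrobRec.indFun_isClassFunction _ _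
  have hcl1' : IsClassFunction G (D8Stmt.th1 (x * y) f') := FrobRec.indFun_isClassFunction _ _
  have hcl2' : IsClassFunction G (D8Stmt.th2 (x * y) f' g') :=
    FrobRec.indFun_isClassFunction _ _
  have hxx : x * y * (x * y⁻¹) = a * x * a⁻¹ := by
    rw [hc.ax]
    have h1 : x * y * (x * y⁻¹) = x * x := by
      calc x * y * (x * y⁻¹) = x * (y * x) * y⁻¹ := by group
        _ = x * (x * y) * y⁻¹ := by rw [hc.xy]
        _ = x * x := by group
    rw [h1]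
    apply eq_inv_of_mul_eq_one_left
    have h3 := hc.x3
    rw [pow_succ, pow_two] at h3
    exact h3
  have e1 : D8Stmt.th1 x f (x * y * (x * y⁻¹)) = 3 := by rw [hxx, hcl1 x a, a1]
  have e2 : D8Stmt.th2 x f g (x * y * (x * y⁻¹)) = 3 := by rw [hxx, hcl2 x a, b1]
  obtain ⟨p1, p2⟩ := hIP hc f g hOm _ hcl1'
  obtain ⟨q1, q2⟩ := hIP hc f g hOm _ hcl2'
  obtain ⟨r1, r2⟩ := hIP hd f' g' hOm' _ hcl1
  obtain ⟨s1, s2⟩ := hIP hd f' g' hOm' _ hcl2
  have c6 : conj (6 : ℂ) = 6 := Complex.conj_ofNat 6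
  have c3 : conj (3 : ℂ) = 3 := Complex.conj_ofNat 3
  have c0 : conj (0 : ℂ) = 0 := map_zero _
  refine ⟨?_, ?_, ?_, ?_, ?_, ?_, ?_, ?_⟩
  · rw [p1, d1, d2, d3, c6, c3, c0]; norm_num
  · rw [r1, a2, e1, a4, c6, c3, c0]; norm_num
  · rw [q1, d4, d5, d6, c6, c3, c0]; norm_num
  · rw [r2, a2, e1, a4, c6, c3, c0]; norm_num
  · rw [p2, d1, d2, d3, c6, c3, c0]; norm_num
  · rw [s1, b2, e2, b4, c6, c3, c0]; norm_num
  · rw [q2, d4, d5, d6, c6, c3, c0]; norm_num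
  · rw [s2, b2, e2, b4, c6, c3, c0]; norm_num

end Cfsg.Agent.Lib.Helper57.D8CROSS
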