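import Mathlib
import Cfsg.Agent.Lib.Helper75.DCStmt

/-!
# S4719 / BF : the Brauer–Fowler counting argument
-/

set_option autoImplicit false
universe u

namespace Cfsg.Agent.Lib.Helper57.DCBF

open Finset

theorem filter_card_le {α β : Type*} [Fintype α] (p : α → Prop) [DecidablePred p] [Group β]
    [Finite β] (f : α → β) (hf : ∀ a b, p a → p b → f a = f b → a = b) (C : Subgroup β)
    (hC : ∀ a, p a → f a ∈ C) : (univ.filter p).card ≤ Nat.card C := by
  rw [← Fintype.card_subtype, ← Nat.card_eq_fintype_card]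
  exact Nat.card_le_card_of_injective (fun a : {a // p a} => (⟨f a.1, hC a.1 a.2⟩ : C))
    (fun a b h => Subtype.ext (hf _ _ a.2 b.2 (congrArg Subtype.val h)))

theorem bf_core {H : Type*} [Group H] [Finite H] (z : H) (n : ℕ) (hz2 : z * z = 1)
    (hcz : Nat.card (Subgroup.centralizer ({z} : Set H)) ≤ n) (hn : 2 * n ≤ Nat.card H) :
    ∃ g : H, g ≠ 1 ∧ Nat.card H ≤ 2 * n ^ 2 * Nat.card (Subgroup.centralizer ({g} : Set H)) := by
  classical
  haveI : Fintype H := Fintype.ofFinite H
  by_contra hcon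
  push Not at hcon
  -- the class of `z`
  obtain ⟨K, hK⟩ : ∃ K : Finset H, K = univ.image (fun h : H => h * z * h⁻¹) := ⟨_, rfl⟩
  have hKinv : ∀ x ∈ K, x * x = 1 := by
    intro x hx
    rw [hK, mem_image] at hx
    obtain ⟨h, -, rfl⟩ := hx
    calc h * z * h⁻¹ * (h * z * h⁻¹) = h * (z * z) * h⁻¹ := by group
      _ = 1 := by rw [hz2]; group
  -- `|H| ≤ |C(z)| * |K|`
  have hNK : Fintype.card H ≤ Nat.card (Subgroup.centralizer ({z} : Set H)) * K.card := by
    rw [hK, ← Finset.card_univ]
    apply Finset.card_le_mul_card_image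
    intro a ha
    rw [mem_image] at ha
    obtain ⟨h₀, -, rfl⟩ := ha
    apply filter_card_le _ (fun h => h₀⁻¹ * h)
    · intro a b _ _ hab
      exact mul_left_cancel hab
    · intro h hh
      rw [Subgroup.mem_centralizer_iff]
      intro s hs
      rw [Set.mem_singleton_iff] at hs
      subst hs
      have e1 : h * s = h₀ * s * h₀⁻¹ * h := by
        rw [← hh]
        group
      calc s * (h₀⁻¹ * h) = h₀⁻¹ * (h₀ * s * h₀⁻¹ * h) := by group
        _ = h₀⁻¹ * h * s := by rw [← e1]; group
  -- pairs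
  have hpairs := Finset.card_eq_sum_card_fiberwise (f := fun p : H × H => p.1 * p.2)
    (s := K ×ˢ K) (t := univ) (fun _ _ => mem_univ _)
  rw [Finset.card_product, ← Finset.add_sum_erase univ _ (mem_univ (1 : H))] at hpairs
  have h1 : ((K ×ˢ K).filter (fun p : H × H => p.1 * p.2 = 1)).card ≤ K.card := by
    apply Finset.card_le_card_of_injOn (fun p : H × H => p.1)
    · intro p hp
      rw [Finset.coe_filter] at hp
      exact (mem_product.mp hp.1).1
    · intro p hp q hq hpq
      rw [Finset.coe_filter] at hp hq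
      have hp2 : p.1 * p.2 = 1 := hp.2
      have hq2 : q.1 * q.2 = 1 := hq.2
      have hpq : p.1 = q.1 := hpq
      have e : p.2 = q.2 := by
        have : p.1 * p.2 = p.1 * q.2 := by rw [hp2, hpq, hq2]
        exact mul_left_cancel this
      exact Prod.ext hpq e
  have h2 : ∀ g ∈ univ.erase (1 : H),
      2 * n ^ 2 * ((K ×ˢ K).filter (fun p : H × H => p.1 * p.2 = g)).card + 1 ≤ Fintype.card H := by
    intro g hg
    have hg1 : g ≠ 1 := (mem_erase.mp hg).1
    have hc := hcon g hg1
    rw [Nat.card_eq_fintype_card (α := H)] at hc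
    have hle : ((K ×ˢ K).filter (fun p : H × H => p.1 * p.2 = g)).card ≤
        Nat.card (Subgroup.centralizer ({g} : Set H)) := by
      have hle1 : ((K ×ˢ K).filter (fun p : H × H => p.1 * p.2 = g)).card ≤
          (univ.filter (fun x : H => x * g * x⁻¹ = g⁻¹)).card := by
        apply Finset.card_le_card_of_injOn (fun p : H × H => p.1)
        · intro p hp
          rw [Finset.coe_filter] at hp
          obtain ⟨hpK, hpg⟩ := hp
          have hpg : p.1 * p.2 = g := hpg
          have hx := hKinv _ (mem_product.mp hpK).1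
          have hy := hKinv _ (mem_product.mp hpK).2
          rw [Finset.coe_filter]
          refine ⟨mem_univ _, ?_⟩
          show p.1 * g * p.1⁻¹ = g⁻¹
          have hxi : p.1⁻¹ = p.1 := inv_eq_of_mul_eq_one_left hx
          have hyi : p.2⁻¹ = p.2 := inv_eq_of_mul_eq_one_left hy
          rw [← hpg, mul_inv_rev, hxi, hyi]
          calc p.1 * (p.1 * p.2) * p.1 = (p.1 * p.1) * p.2 * p.1 := by group
            _ = p.2 * p.1 := by rw [hx, one_mul]
        · intro p hp q hq hpq
          rw [Finset.coe_filter] at hp hq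
          have hp2 : p.1 * p.2 = g := hp.2
          have hq2 : q.1 * q.2 = g := hq.2
          have hpq : p.1 = q.1 := hpq
          have e : p.2 = q.2 := by
            have : p.1 * p.2 = p.1 * q.2 := by rw [hp2, hpq, hq2]
            exact mul_left_cancel this
          exact Prod.ext hpq e
      refine hle1.trans ?_
      by_cases hex : ∃ x₀ : H, x₀ * g * x₀⁻¹ = g⁻¹
      · obtain ⟨x₀, hx₀⟩ := hex
        apply filter_card_le _ (fun x => x₀⁻¹ * x)
        · intro a b _ _ hab
          exact mul_left_cancel hab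
        · intro x hx
          rw [Subgroup.mem_centralizer_iff]
          intro s hs
          rw [Set.mem_singleton_iff] at hs
          subst hs
          have e1 : x * s = s⁻¹ * x := by
            rw [← hx]
            group
          have e2 : x₀⁻¹ * s⁻¹ = s * x₀⁻¹ := by
            rw [← hx₀]
            group
          calc s * (x₀⁻¹ * x) = (s * x₀⁻¹) * x := by group
            _ = x₀⁻¹ * (s⁻¹ * x) := by rw [← e2]; group
            _ = x₀⁻¹ * x * s := by rw [← e1]; group
      · have hempty : univ.filter (fun x : H => x * g * x⁻¹ = g⁻¹) = ∅ := by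
          apply Finset.filter_eq_empty_iff.mpr
          intro x _ hx
          exact hex ⟨x, hx⟩
        rw [hempty, Finset.card_empty]
        exact Nat.zero_le _
    have : 2 * n ^ 2 * ((K ×ˢ K).filter (fun p : H × H => p.1 * p.2 = g)).card ≤
        2 * n ^ 2 * Nat.card (Subgroup.centralizer ({g} : Set H)) :=
      Nat.mul_le_mul_left _ hle
    omega
  -- sum bound
  have hsum : 2 * n ^ 2 * ∑ g ∈ univ.erase (1 : H),
      ((K ×ˢ K).filter (fun p : H × H => p.1 * p.2 = g)).card ≤
      (Fintype.card H - 1) * (Fintype.card H - 1) := by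
    rw [Finset.mul_sum]
    calc ∑ g ∈ univ.erase (1 : H),
          2 * n ^ 2 * ((K ×ˢ K).filter (fun p : H × H => p.1 * p.2 = g)).card
        ≤ ∑ _g ∈ univ.erase (1 : H), (Fintype.card H - 1) := by
          apply Finset.sum_le_sum
          intro g hg
          have := h2 g hg
          omega
      _ = (Fintype.card H - 1) * (Fintype.card H - 1) := by
          rw [Finset.sum_const, Finset.card_erase_of_mem (mem_univ _), Finset.card_univ,
            smul_eq_mul]
  -- arithmetic
  rw [Nat.card_eq_fintype_card (α := H)] at hn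
  set N := Fintype.card H with hN
  set m := K.card with hm
  set S := ∑ g ∈ univ.erase (1 : H),
      ((K ×ˢ K).filter (fun p : H × H => p.1 * p.2 = g)).card with hS
  have hNpos : 0 < N := Fintype.card_pos
  have hA : N ≤ n * m := hNK.trans (Nat.mul_le_mul_right _ hcz)
  have hmm : m * m ≤ m + S := by
    rw [hpairs]
    exact Nat.add_le_add_right h1 _
  -- 2 n² m² ≤ 2 n² m + (N-1)²
  have h3 : 2 * n ^ 2 * (m * m) ≤ 2 * n ^ 2 * m + (N - 1) * (N - 1) := by
    calc 2 * n ^ 2 * (m * m) ≤ 2 * n ^ 2 * (m + S) := Nat.mul_le_mul_left _ hmm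
      _ = 2 * n ^ 2 * m + 2 * n ^ 2 * S := by ring
      _ ≤ 2 * n ^ 2 * m + (N - 1) * (N - 1) := Nat.add_le_add_left hsum _
  have h4 : (N - 1) * (N - 1) < N * N := by
    have : N - 1 < N := by omega
    exact Nat.mul_lt_mul_of_lt_of_le this (by omega) hNpos
  have h5 : 2 * n ^ 2 * m ≤ (n * m) * (n * m) := by
    have : 2 * n ≤ n * m := hn.trans hA
    calc 2 * n ^ 2 * m = (2 * n) * (n * m) := by ring
      _ ≤ (n * m) * (n * m) := Nat.mul_le_mul_right _ this
  have h6 : N * N ≤ (n * m) * (n * m) := Nat.mul_le_mul hA hA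
  have h7 : 2 * n ^ 2 * (m * m) = 2 * ((n * m) * (n * m)) := by ring
  omega

theorem card_cent_sub {Γ : Type*} [Group Γ] (G : Subgroup Γ) (g : ↥G) :
    Nat.card ↥(Subgroup.centralizer ({g} : Set ↥G)) =
      Nat.card ↥(G ⊓ Subgroup.centralizer ({(g : Γ)} : Set Γ)) := by
  apply Nat.card_congr
  refine ⟨fun c => ⟨c.1.1, Subgroup.mem_inf.mpr ⟨c.1.2, ?_⟩⟩,
    fun d => ⟨⟨d.1, (Subgroup.mem_inf.mp d.2).1⟩, ?_⟩, ?_, ?_⟩
  · rw [Subgroup.mem_centralizer_iff]
    intro s hs
    rw [Set.mem_singleton_iff] at hs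
    subst hs
    have h := (Subgroup.mem_centralizer_iff.mp c.2) g (Set.mem_singleton _)
    exact congrArg Subtype.val h
  · rw [Subgroup.mem_centralizer_iff]
    intro s hs
    rw [Set.mem_singleton_iff] at hs
    subst hs
    have h := (Subgroup.mem_centralizer_iff.mp (Subgroup.mem_inf.mp d.2).2) (s : Γ)
      (Set.mem_singleton _)
    exact Subtype.ext h
  · intro c
    rfl
  · intro d
    rfl

theorem main : Cfsg.Agent.Lib.Helper75.DCStmt.BF.{u} := by
  intro Γ _ _ G z n hz _ hz2 hcz hn
  have hz2' : (⟨z, hz⟩ : ↥G) * ⟨z, hz⟩ = 1 := Subtype.ext hz2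
  have hcz' : Nat.card (Subgroup.centralizer ({(⟨z, hz⟩ : ↥G)} : Set ↥G)) ≤ n := by
    rw [card_cent_sub]
    exact hcz
  obtain ⟨g, hg1, hg⟩ := bf_core (⟨z, hz⟩ : ↥G) n hz2' hcz' hn
  refine ⟨g.1, g.2, fun h => hg1 (Subtype.ext h), ?_⟩
  rw [card_cent_sub] at hg
  exact hg

end Cfsg.Agent.Lib.Helper57.DCBF
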