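import Mathlib
import Cfsg.Agent.Lib.Helper40.GFStmt

set_option autoImplicit false
set_option linter.unusedSectionVars false

/-!
S5886, piece Z1B (`|F| = 2`, `k = 2`): a non line preserving `h ∈ c.M` which maps one `L`-line
into an `L`-line gives some `E(ν) ∈ c.M` with `ν` not a multiplication.

Route: normalise `h` (by `L`-linear maps on both sides) so that it fixes `e0 = (1, 0)`; then
`h (a, b) = (A a + X b, D b)`.  If every `ν` with `E(ν) ∈ c.M` (for `v = e0`, `ψ = ` second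
coordinate) were a multiplication, then conjugating the `L`-transvections by `h` shows that `A`
is multiplicative and `D = β A`; commutators of `h` with dilations give
`X (l q) - X q = γ_l A q`, hence `X = X 1 * A`, and `h` is `A`-semilinear, so line preserving.
-/

universe u

namespace Cfsg.Agent.Lib.Helper57.GFZ1B

open Cfsg.Agent.Lib.Helper40.GFStmt

section
variable {F L : Type u} [Field F] [Field L] [Algebra F L]

/-- the first basis vector -/
def e0 : V 2 L := Pi.single 0 1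

/-- the second coordinate -/
def ps : V 2 L →ₗ[L] L := LinearMap.proj 1

theorem e0_zero : (e0 : V 2 L) 0 = 1 := by simp [e0]

theorem e0_one : (e0 : V 2 L) 1 = 0 := by simp [e0]

theorem e0_ne : (e0 : V 2 L) ≠ 0 := by
  intro h
  have h1 := congrFun h 0
  rw [e0_zero] at h1
  exact one_ne_zero h1

theorem ps_ne : (ps : V 2 L →ₗ[L] L) ≠ 0 := by
  intro h
  have h1 := congrArg (fun f : V 2 L →ₗ[L] L => f (Pi.single 1 1)) h
  simp [ps] at h1

theorem ps_e0 : ps (e0 : V 2 L) = 0 := e0_one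

theorem smul_e0 (t : L) : t • (e0 : V 2 L) = Pi.single 0 t := by
  ext i
  fin_cases i <;> simp [e0]

theorem vec_eq (x : V 2 L) : x = Pi.single 0 (x 0) + Pi.single 1 (x 1) := by
  ext i
  fin_cases i <;> simp

theorem vec_ext {x y : V 2 L} (h0 : x 0 = y 0) (h1 : x 1 = y 1) : x = y := by
  ext i
  fin_cases i
  · exact h0
  · exact h1

theorem single_smulF (i : Fin 2) (s : F) (a : L) :
    (Pi.single i (s • a) : V 2 L) = s • (Pi.single i a : V 2 L) := by
  ext j
  by_cases hj : j = i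
  · subst hj
    simp
  · simp [Pi.single_eq_of_ne hj]

/-- the coordinate maps of an `F`-linear map of `L ^ 2` -/
def co (h : V 2 L ≃ₗ[F] V 2 L) (i j : Fin 2) : L →ₗ[F] L where
  toFun a := h (Pi.single i a) j
  map_add' a b := by
    show h (Pi.single i (a + b)) j = h (Pi.single i a) j + h (Pi.single i b) j
    rw [Pi.single_add, map_add]
    rfl
  map_smul' s a := by
    show h (Pi.single i (s • a)) j = s • h (Pi.single i a) j
    rw [single_smulF, map_smul]
    rfl

theorem co_apply (h : V 2 L ≃ₗ[F] V 2 L) (i j : Fin 2) (a : L) :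
    co h i j a = h (Pi.single i a) j := rfl

theorem h_coord (h : V 2 L ≃ₗ[F] V 2 L) (x : V 2 L) (j : Fin 2) :
    h x j = co h 0 j (x 0) + co h 1 j (x 1) := by
  conv_lhs => rw [vec_eq x, map_add]
  rfl

theorem co01 (h : V 2 L ≃ₗ[F] V 2 L) (hfix : h e0 = e0) (hline : LineAt h e0) (a : L) :
    co h 0 1 a = 0 := by
  obtain ⟨a', ha'⟩ := hline a
  rw [co_apply, ← smul_e0, ha', hfix]
  simp [e0_one]

theorem h_smul_e0 (h : V 2 L ≃ₗ[F] V 2 L) (hfix : h e0 = e0) (hline : LineAt h e0) (t : L) :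
    h (t • e0) = co h 0 0 t • (e0 : V 2 L) := by
  apply vec_ext
  · show h (t • e0) 0 = (co h 0 0 t • (e0 : V 2 L)) 0
    rw [Pi.smul_apply, e0_zero, smul_eq_mul, mul_one, smul_e0 t]
    rfl
  · show h (t • e0) 1 = (co h 0 0 t • (e0 : V 2 L)) 1
    rw [Pi.smul_apply, e0_one, smul_eq_mul, mul_zero, smul_e0 t]
    exact co01 h hfix hline t

theorem coA_inj (h : V 2 L ≃ₗ[F] V 2 L) (hfix : h e0 = e0) (hline : LineAt h e0) :
    Function.Injective (co h 0 0) := by
  intro a b hab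
  have h1 : h (a • e0) = h (b • e0) := by
    rw [h_smul_e0 h hfix hline, h_smul_e0 h hfix hline, hab]
  have h3 := congrFun (h.injective h1) 0
  simpa [e0_zero] using h3

theorem coD_inj [Finite L] (h : V 2 L ≃ₗ[F] V 2 L) (hfix : h e0 = e0) (hline : LineAt h e0) :
    Function.Injective (co h 1 1) := by
  intro b b' hbb
  have hA := Finite.surjective_of_injective (coA_inj h hfix hline)
  obtain ⟨a, ha⟩ := hA (co h 1 0 (b - b'))
  have hD : co h 1 1 (b - b') = 0 := by rw [map_sub, hbb, sub_self]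
  have h1 : h (Pi.single 1 (b - b')) = h (a • e0) := by
    rw [h_smul_e0 h hfix hline, ha]
    apply vec_ext
    · rw [Pi.smul_apply, e0_zero, smul_eq_mul, mul_one]
      rfl
    · rw [Pi.smul_apply, e0_one, smul_eq_mul, mul_zero]
      exact hD
  have h2 := congrFun (h.injective h1) 1
  have h3 : b - b' = 0 := by simpa [e0_one] using h2
  exact sub_eq_zero.mp h3

theorem hinv_apply (g : V 2 L ≃ₗ[F] V 2 L) (y : V 2 L) : g (g⁻¹ y) = y := by
  rw [← LinearEquiv.mul_apply, mul_inv_cancel]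
  rfl

theorem hinv'_apply (g : V 2 L ≃ₗ[F] V 2 L) (y : V 2 L) : g⁻¹ (g y) = y := by
  rw [← LinearEquiv.mul_apply, inv_mul_cancel]
  rfl

theorem exists_dil2 (t : L) (ht : t ≠ 0) :
    ∃ δ : V 2 L ≃ₗ[L] V 2 L, ∀ x : V 2 L, δ x 0 = x 0 ∧ δ x 1 = t * x 1 := by
  set φ₁ : V 2 L →ₗ[L] L := (t - 1) • LinearMap.proj 1 with hφ₁
  set u : V 2 L := Pi.single 1 1 with hu
  have hu0 : u 0 = 0 := by simp [hu]
  have hu1 : u 1 = 1 := by simp [hu]
  have h1 : 1 + φ₁ u = t := by
    rw [hφ₁, LinearMap.smul_apply, LinearMap.proj_apply, hu1, smul_eq_mul]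
    ring
  have hunit : IsUnit (1 + φ₁ u) := by
    rw [h1]
    exact ht.isUnit
  refine ⟨LinearEquiv.dilatransvection hunit, fun x => ?_⟩
  have hap : LinearEquiv.dilatransvection hunit x = x + ((t - 1) * x 1) • u := by
    rw [LinearEquiv.dilatransvection.apply, hφ₁, LinearMap.smul_apply, LinearMap.proj_apply,
      smul_eq_mul]
  rw [hap]
  constructor
  · simp only [Pi.add_apply, Pi.smul_apply, smul_eq_mul, hu0]
    ring
  · simp only [Pi.add_apply, Pi.smul_apply, smul_eq_mul, hu1]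
    ring

theorem exists_mu (hr : Module.finrank F L = 2) : ∃ μ : L, μ ≠ 0 ∧ μ ≠ 1 := by
  by_contra hcon0
  have hcon : ∀ μ : L, μ ≠ 0 → μ = 1 := fun μ hμ => by
    by_contra h1
    exact hcon0 ⟨μ, hμ, h1⟩
  have htop : (Submodule.span F {(1 : L)} : Submodule F L) = ⊤ := by
    rw [eq_top_iff]
    intro x _
    by_cases hx : x = 0
    · rw [hx]
      exact Submodule.zero_mem _
    · rw [hcon x hx]
      exact Submodule.subset_span (Set.mem_singleton 1)
  have h1 : Module.finrank F (Submodule.span F {(1 : L)}) = 1 :=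
    finrank_span_singleton one_ne_zero
  rw [htop, finrank_top, hr] at h1
  omega

/-- the algebra: from the two families of identities, `h` is semilinear -/
theorem core_alg (A X D : L →ₗ[F] L) (hA1 : A 1 = 1) (hAinj : Function.Injective A)
    (h2 : (1 : L) + 1 = 0) (μ : L) (hμ0 : μ ≠ 0) (hμ1 : μ ≠ 1)
    (H1 : ∀ a : L, ∃ f : L, ∀ z : L, A (a * z) = f * D z)
    (H2 : (∀ l z : L, D (l * z) = A l * D z) → ∀ l : L, l ≠ 0 →
      ∃ g : L, ∀ q : L, X (l * q) - X q = g * D (l * q)) :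
    ∃ β : L, (∀ z, D z = β * A z) ∧ (∀ a z, A (a * z) = A a * A z) ∧
      (∀ q, X q = X 1 * A q) := by
  obtain ⟨f1, hf1⟩ := H1 1
  have hf1' : ∀ z, A z = f1 * D z := fun z => by
    have h3 := hf1 z
    rwa [one_mul] at h3
  have hf1ne : f1 ≠ 0 := by
    rintro rfl
    have h3 := hf1' 1
    rw [hA1, zero_mul] at h3
    exact one_ne_zero h3
  have hD : ∀ z, D z = f1⁻¹ * A z := fun z => by
    rw [hf1' z, inv_mul_cancel_left₀ hf1ne]
  have hmul : ∀ a z, A (a * z) = A a * A z := by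
    intro a z
    obtain ⟨f, hf⟩ := H1 a
    have h1 := hf 1
    rw [mul_one, hD 1, hA1, mul_one] at h1
    rw [hf z, hD z, h1]
    ring
  have hDmul : ∀ l z : L, D (l * z) = A l * D z := by
    intro l z
    rw [hD (l * z), hmul, hD z]
    ring
  refine ⟨f1⁻¹, hD, hmul, ?_⟩
  have hstar : ∀ l : L, l ≠ 0 → ∀ q : L, X (l * q) = X q + (X l - X 1) * A q := by
    intro l hl q
    obtain ⟨g, hg⟩ := H2 hDmul l hl
    have h1 := hg 1
    rw [mul_one, hD l] at h1
    have h3 := hg q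
    rw [hD (l * q), hmul l q] at h3
    linear_combination h3 - A q * h1
  have hsym : ∀ q l : L, q ≠ 0 → l ≠ 0 →
      X q + (X l - X 1) * A q = X l + (X q - X 1) * A l := by
    intro q l hq hl
    rw [← hstar l hl q, ← hstar q hq l, mul_comm]
  have hν : (1 : L) + μ ≠ 0 := by
    intro h
    apply hμ1
    linear_combination h - h2
  have hXμ : X μ = X 1 * A μ := by
    have h1 := hsym (1 + μ) μ hν hμ0
    rw [map_add, map_add, hA1] at h1
    linear_combination h1
  have hAμ : 1 - A μ ≠ 0 := by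
    intro h
    apply hμ1
    apply hAinj
    rw [hA1]
    linear_combination -h
  intro q
  by_cases hq : q = 0
  · subst hq
    rw [map_zero, map_zero, mul_zero]
  · have h1 := hsym q μ hq hμ0
    have h3 : (X q - X 1 * A q) * (1 - A μ) = 0 := by
      linear_combination h1 - (A q - 1) * hXμ
    rcases mul_eq_zero.mp h3 with h | h
    · exact sub_eq_zero.mp h
    · exact absurd h hAμ

/-- the geometry: the two families of identities -/
theorem geo [Finite L] (c : Ctx F L 2) (h : V 2 L ≃ₗ[F] V 2 L) (hh : h ∈ c.M)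
    (allL : ∀ g : V 2 L ≃ₗ[L] V 2 L, g.restrictScalars F ∈ c.M)
    (A X D : L →ₗ[F] L)
    (c0 : ∀ w : V 2 L, h w 0 = A (w 0) + X (w 1))
    (c1 : ∀ w : V 2 L, h w 1 = D (w 1))
    (hAinj : Function.Injective A) (hDinj : Function.Injective D)
    (hSig : ∀ ν : L →ₗ[F] L, InSig c e0 ps ν → ∃ c' : L, ν = LinearMap.mulLeft F c') :
    (∀ a : L, ∃ f : L, ∀ z : L, A (a * z) = f * D z) ∧
    ((∀ l z : L, D (l * z) = A l * D z) → ∀ l : L, l ≠ 0 →
      ∃ g : L, ∀ q : L, X (l * q) - X q = g * D (l * q)) := by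
  have hse : ∀ t : L, h (t • (e0 : V 2 L)) = A t • (e0 : V 2 L) := by
    intro t
    apply vec_ext
    · simp only [c0, Pi.smul_apply, e0_zero, e0_one, smul_eq_mul, mul_one, mul_zero, map_zero,
        add_zero]
    · simp only [c1, Pi.smul_apply, e0_one, smul_eq_mul, mul_zero, map_zero]
  have hDsurj := Finite.surjective_of_injective hDinj
  constructor
  · intro a
    let Dₑ : L ≃ₗ[F] L := LinearEquiv.ofBijective D ⟨hDinj, hDsurj⟩
    obtain ⟨e, he, hx⟩ := inSig_mulLeft c (e0 : V 2 L) ps ps_e0 a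
    have hins : InSig c e0 ps (A ∘ₗ LinearMap.mulLeft F a ∘ₗ Dₑ.symm.toLinearMap) := by
      refine ⟨h * e * h⁻¹, c.M.mul_mem (c.M.mul_mem hh he) (c.M.inv_mem hh), fun y => ?_⟩
      obtain ⟨x, rfl⟩ : ∃ x, y = h x := ⟨h⁻¹ y, (hinv_apply h y).symm⟩
      have h3 : (h * e * h⁻¹) (h x) = h (e x) := by
        rw [LinearEquiv.mul_apply, LinearEquiv.mul_apply, hinv'_apply]
      have h5 : Dₑ.symm (D (x 1)) = x 1 := Dₑ.symm_apply_apply (x 1)
      have h6 : (A ∘ₗ LinearMap.mulLeft F a ∘ₗ Dₑ.symm.toLinearMap) (ps (h x))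
          = A (a * x 1) := by
        show A (a * Dₑ.symm (h x 1)) = A (a * x 1)
        rw [c1, h5]
      rw [h3, hx, map_add, h6]
      congr 1
      exact hse (a * x 1)
    obtain ⟨c', hc'⟩ := hSig _ hins
    refine ⟨c', fun z => ?_⟩
    have h7 := congrArg (fun ν : L →ₗ[F] L => ν (D z)) hc'
    have h8 : Dₑ.symm (D z) = z := Dₑ.symm_apply_apply z
    simp only [LinearMap.comp_apply, LinearMap.mulLeft_apply, LinearEquiv.coe_coe, h8] at h7
    exact h7
  · intro hDmul l hl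
    have hAl : A l ≠ 0 := (map_ne_zero_iff A hAinj).mpr hl
    obtain ⟨δ, hδ⟩ := exists_dil2 l hl
    obtain ⟨δ', hδ'⟩ := exists_dil2 (A l) hAl
    have hBinj : Function.Injective (D ∘ₗ LinearMap.mulLeft F l) := by
      intro q q' hqq
      exact mul_left_cancel₀ hl (hDinj hqq)
    let Bₑ : L ≃ₗ[F] L := LinearEquiv.ofBijective (D ∘ₗ LinearMap.mulLeft F l)
      ⟨hBinj, Finite.surjective_of_injective hBinj⟩
    have hins : InSig c e0 ps ((X ∘ₗ LinearMap.mulLeft F l - X) ∘ₗ Bₑ.symm.toLinearMap) := by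
      refine ⟨h * δ.restrictScalars F * h⁻¹ * (δ'.restrictScalars F)⁻¹,
        c.M.mul_mem (c.M.mul_mem (c.M.mul_mem hh (allL δ)) (c.M.inv_mem hh))
          (c.M.inv_mem (allL δ')), fun y => ?_⟩
      obtain ⟨x, rfl⟩ : ∃ x, y = δ' (h x) :=
        ⟨h⁻¹ (δ'.symm y), by rw [hinv_apply, δ'.apply_symm_apply]⟩
      have h3 : (h * δ.restrictScalars F * h⁻¹ * (δ'.restrictScalars F)⁻¹) (δ' (h x))
          = h (δ x) := by
        rw [LinearEquiv.mul_apply, LinearEquiv.mul_apply, LinearEquiv.mul_apply]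
        have h4 : (δ'.restrictScalars F)⁻¹ (δ' (h x)) = h x :=
          hinv'_apply (δ'.restrictScalars F) (h x)
        rw [h4, hinv'_apply]
        rfl
      have h5 : Bₑ.symm (D (l * x 1)) = x 1 := Bₑ.symm_apply_apply (x 1)
      have h6 : ((X ∘ₗ LinearMap.mulLeft F l - X) ∘ₗ Bₑ.symm.toLinearMap) (ps (δ' (h x)))
          = X (l * x 1) - X (x 1) := by
        show X (l * Bₑ.symm (δ' (h x) 1)) - X (Bₑ.symm (δ' (h x) 1)) = X (l * x 1) - X (x 1)
        rw [(hδ' (h x)).2, c1, ← hDmul, h5]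
      rw [h3, h6]
      apply vec_ext
      · simp only [c0, (hδ x).1, (hδ x).2, (hδ' (h x)).1, Pi.add_apply, Pi.smul_apply, e0_zero,
          smul_eq_mul, mul_one]
        ring
      · simp only [c1, (hδ x).2, (hδ' (h x)).2, Pi.add_apply, Pi.smul_apply, e0_one,
          smul_eq_mul, mul_zero, add_zero, hDmul]
    obtain ⟨g, hg⟩ := hSig _ hins
    refine ⟨g, fun q => ?_⟩
    have h7 := congrArg (fun ν : L →ₗ[F] L => ν (D (l * q))) hg
    have h8 : Bₑ.symm (D (l * q)) = q := Bₑ.symm_apply_apply q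
    simp only [LinearMap.comp_apply, LinearMap.sub_apply, LinearMap.mulLeft_apply,
      LinearEquiv.coe_coe, h8] at h7
    exact h7

end

theorem main (hT : GLTrans.{u}) : Z1B.{u} := by
  intro F L _ _ _ _ c hF2 hr h hh hnl x₀ hx₀ hline₀
  classical
  have hFfin : Finite F := Nat.finite_of_card_ne_zero (by rw [hF2]; norm_num)
  have hF01 : ∀ s : F, s = 0 ∨ s = 1 := by
    intro s
    have : Fintype F := Fintype.ofFinite F
    have h1 : s ^ Fintype.card F = s := FiniteField.pow_card s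
    rw [← Nat.card_eq_fintype_card, hF2] at h1
    have h3 : s * (s - 1) = 0 := by linear_combination h1
    rcases mul_eq_zero.mp h3 with h | h
    · exact Or.inl h
    · exact Or.inr (sub_eq_zero.mp h)
  have h2L : (1 : L) + 1 = 0 := by
    have h2F : (1 : F) + 1 = 0 := by
      rcases hF01 (1 + 1) with h | h
      · exact h
      · exfalso
        have h4 : (1 : F) = 0 := by linear_combination h
        exact one_ne_zero h4
    have h5 := congrArg (algebraMap F L) h2F
    simpa using h5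
  have allL : ∀ g : V 2 L ≃ₗ[L] V 2 L, g.restrictScalars F ∈ c.M := by
    intro g
    apply c.hsub
    have hu : IsUnit (Algebra.norm F (LinearMap.det (g : V 2 L →ₗ[L] V 2 L))) :=
      (LinearEquiv.isUnit_det' g).map (Algebra.norm F)
    rcases hF01 (Algebra.norm F (LinearMap.det (g : V 2 L →ₗ[L] V 2 L))) with h0 | h1
    · rw [h0] at hu
      exact absurd hu not_isUnit_zero
    · exact h1
  have hhx₀ : h x₀ ≠ 0 := by
    intro h0
    apply hx₀
    apply h.injective
    rw [h0, map_zero]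
  obtain ⟨g₀, hg₀⟩ := hT L 2 (e0 : V 2 L) x₀ e0_ne hx₀
  obtain ⟨g₁, hg₁⟩ := hT L 2 (h x₀) (e0 : V 2 L) hhx₀ e0_ne
  obtain ⟨h', hh'def⟩ : ∃ h' : V 2 L ≃ₗ[F] V 2 L,
      h' = g₁.restrictScalars F * h * g₀.restrictScalars F := ⟨_, rfl⟩
  have hh'app : ∀ x, h' x = g₁ (h (g₀ x)) := fun x => by
    rw [hh'def]
    rfl
  have hh' : h' ∈ c.M := by
    rw [hh'def]
    exact c.M.mul_mem (c.M.mul_mem (allL g₁) hh) (allL g₀)
  have hfix : h' e0 = e0 := by rw [hh'app, hg₀, hg₁]
  have hline : LineAt h' e0 := by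
    intro a
    obtain ⟨a', ha'⟩ := hline₀ a
    refine ⟨a', ?_⟩
    rw [hh'app, hh'app, g₀.map_smul, hg₀, ha', g₁.map_smul]
  have hnl' : ¬ ∀ x, LineAt h' x := by
    intro hall
    apply hnl
    intro x a
    obtain ⟨a', ha'⟩ := hall (g₀.symm x) a
    refine ⟨a', ?_⟩
    rw [hh'app, hh'app, g₀.map_smul, g₀.apply_symm_apply] at ha'
    exact g₁.injective (ha'.trans (g₁.map_smul a' (h x)).symm)
  by_contra hcon
  have hSig : ∀ ν : L →ₗ[F] L, InSig c e0 ps ν → ∃ c' : L, ν = LinearMap.mulLeft F c' := by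
    intro ν hν
    by_contra hne
    exact hcon ⟨e0, ps, ν, e0_ne, ps_ne, ps_e0, fun c' hc => hne ⟨c', hc⟩, hν⟩
  have c0 : ∀ w : V 2 L, h' w 0 = co h' 0 0 (w 0) + co h' 1 0 (w 1) := fun w => h_coord h' w 0
  have c1 : ∀ w : V 2 L, h' w 1 = co h' 1 1 (w 1) := fun w => by
    rw [h_coord h' w 1, co01 h' hfix hline, zero_add]
  have hAinj := coA_inj h' hfix hline
  have hDinj := coD_inj h' hfix hline
  have hA1 : co h' 0 0 1 = 1 := by
    have h6 : h' (Pi.single 0 1) = e0 := hfix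
    rw [co_apply, h6, e0_zero]
  obtain ⟨μ, hμ0, hμ1⟩ : ∃ μ : L, μ ≠ 0 ∧ μ ≠ 1 := exists_mu hr
  obtain ⟨H1, H2⟩ := geo c h' hh' allL (co h' 0 0) (co h' 1 0) (co h' 1 1) c0 c1 hAinj hDinj hSig
  obtain ⟨β, hD, hmul, hX⟩ := core_alg (co h' 0 0) (co h' 1 0) (co h' 1 1) hA1 hAinj h2L μ
    hμ0 hμ1 H1 H2
  apply hnl'
  intro x a
  refine ⟨co h' 0 0 a, ?_⟩
  apply vec_ext
  · simp only [c0, Pi.smul_apply, smul_eq_mul, hmul]
    rw [hX (a * x 1), hX (x 1), hmul]
    ring
  · simp only [c1, Pi.smul_apply, smul_eq_mul]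
    rw [hD (a * x 1), hD (x 1), hmul]
    ring

end Cfsg.Agent.Lib.Helper57.GFZ1B
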