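import Mathlib
import Cfsg.Agent.Lib.Helper96.HallAltStmt

set_option autoImplicit false

namespace Cfsg.Agent.Lib.Helper57.HAPD3

open Equiv Cfsg.Agent.Lib.Helper96.HallSymStmt Cfsg.Agent.Lib.Helper96.HallAltStmt

theorem main : Cfsg.Agent.Lib.Helper96.HallAltStmt.PD3 := by
  intro Ω _ _ N htr hpos hab
  obtain ⟨x₀⟩ : Nonempty Ω := Fintype.card_pos_iff.mp hpos
  have hbij : Function.Bijective (fun g : ↥N => (g : Perm Ω) x₀) := by
    constructor
    · intro g h hgh
      apply Subtype.ext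
      apply Equiv.ext
      intro y
      obtain ⟨k, hk, rfl⟩ := htr x₀ y
      have e1 : (g : Perm Ω) (k x₀) = k ((g : Perm Ω) x₀) := by
        rw [← Perm.mul_apply, hab _ g.2 k hk, Perm.mul_apply]
      have e2 : (h : Perm Ω) (k x₀) = k ((h : Perm Ω) x₀) := by
        rw [← Perm.mul_apply, hab _ h.2 k hk, Perm.mul_apply]
      rw [e1, e2]
      exact congrArg k hgh
    · intro y
      obtain ⟨k, hk, rfl⟩ := htr x₀ y
      exact ⟨⟨k, hk⟩, rfl⟩
  rw [Nat.card_eq_of_bijective _ hbij, Nat.card_eq_fintype_card]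

end Cfsg.Agent.Lib.Helper57.HAPD3
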