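import Mathlib
import Cfsg.Agent.Lib.Helper68.M11UStmt
import Cfsg.Agent.Lib.Helper68.M11Cnt
import Cfsg.Agent.S0434
import Cfsg.Agent.S0435

/-!
# S0420 piece THREE: every involution inverts exactly three Sylow 3-subgroups
-/

set_option autoImplicit false

namespace Cfsg.Agent.Lib.Helper57.MUTHREE

open Pointwise Cfsg Cfsg.Agent.Lib.Helper68.M11UStmt Cfsg.Agent.Lib.Helper92.M11Stmt

universe u

theorem mem_conj_smul' {G : Type u} [Group G] {g x : G} {P : Subgroup G} :
    x ∈ MulAut.conj g • P ↔ g⁻¹ * x * g ∈ P := by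
  rw [Subgroup.mem_pointwise_smul_iff_inv_smul_mem, ← map_inv, MulAut.smul_def,
    MulAut.conj_apply, inv_inv]

theorem orderOf_conj' {G : Type u} [Group G] (c t : G) : orderOf (c * t * c⁻¹) = orderOf t := by
  have h := orderOf_injective (MulAut.conj c).toMonoidHom (MulAut.conj c).injective t
  simpa using h

/-- Conjugation transports the Sylow subgroups inverted by `a` to those inverted by
`c * a * c⁻¹`. -/
theorem card_inverts_le {G : Type u} [Group G] [Finite G] (a c : G) :
    Nat.card {P : Sylow 3 G // Inverts a (P : Subgroup G)}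
      ≤ Nat.card {P : Sylow 3 G // Inverts (c * a * c⁻¹) (P : Subgroup G)} := by
  refine Nat.card_le_card_of_injective
    (fun P => ⟨c • P.1, ?_⟩) ?_
  · intro x hx
    rw [Sylow.coe_subgroup_smul, mem_conj_smul'] at hx
    have h1 := P.2 _ hx
    calc c * a * c⁻¹ * x * (c * a * c⁻¹)⁻¹ = c * (a * (c⁻¹ * x * c) * a⁻¹) * c⁻¹ := by group
      _ = c * (c⁻¹ * x * c)⁻¹ * c⁻¹ := by rw [h1]
      _ = x⁻¹ := by group
  · intro P P' h
    have h1 : c • P.1 = c • P'.1 := congrArg Subtype.val h
    exact Subtype.ext (smul_left_cancel c h1)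

theorem card_inverts_eq {G : Type u} [Group G] [Finite G] (a b : G) (h : IsConj a b) :
    Nat.card {P : Sylow 3 G // Inverts a (P : Subgroup G)}
      = Nat.card {P : Sylow 3 G // Inverts b (P : Subgroup G)} := by
  obtain ⟨c, hc⟩ := isConj_iff.mp h
  apply le_antisymm
  · rw [← hc]; exact card_inverts_le a c
  · have h1 := card_inverts_le b c⁻¹
    have h2 : c⁻¹ * b * c⁻¹⁻¹ = a := by rw [← hc]; group
    rwa [h2] at h1

theorem main (h1 : InvConj.{u}) (h2 : InvertT.{u}) (h3 : InvCoset.{u}) : ThreeInv.{u} := by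
  intro G _ _ _ hG t ht
  classical
  have : Fintype G := Fintype.ofFinite G
  have : Fintype (Sylow 3 G) := Fintype.ofFinite _
  have : Fact (Nat.Prime 3) := ⟨Nat.prime_three⟩
  have hM11 : Cfsg.IsM11 G := ⟨inferInstance, hG⟩
  have hfac : (7920 : ℕ).factorization 3 = 2 := by
    have h : (7920 : ℕ) = 3 ^ 2 * 880 := by norm_num
    rw [h, Nat.factorization_mul (by norm_num) (by norm_num),
      Nat.Prime.factorization_pow Nat.prime_three]
    simp [Nat.factorization_eq_zero_of_not_dvd (by norm_num : ¬ 3 ∣ 880)]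
  have hcardP : ∀ P : Sylow 3 G, Nat.card P = 9 := by
    intro P
    rw [Sylow.card_eq_multiplicity, hG, hfac]
    norm_num
  have hsyl : Nat.card (Sylow 3 G) = 55 := by
    obtain ⟨P⟩ : Nonempty (Sylow 3 G) := inferInstance
    have h4 := Sylow.card_eq_index_normalizer P
    have h5 := Cfsg.Agent.S0434.result hM11 P
    have h6 := Subgroup.card_mul_index (Subgroup.normalizer ((P : Subgroup G) : Set G))
    rw [h5, hG] at h6
    have h7 : (Subgroup.normalizer ((P : Subgroup G) : Set G)).index = 55 := by omega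
    rw [h4]
    exact h7
  have hinv : Nat.card {s : G // orderOf s = 2} = 165 := by
    have h4 := Cfsg.Agent.Lib.Helper68.M11Cnt.card_class_mul t
    rw [Cfsg.Agent.S0435.result hM11 t ht, hG] at h4
    have h5 : Nat.card {s : G // orderOf s = 2} = Nat.card {b : G // IsConj t b} := by
      refine Nat.card_congr (Equiv.subtypeEquivRight ?_)
      intro s
      constructor
      · intro hs
        exact (h1 G hG s t hs ht).symm
      · intro hs
        obtain ⟨c, hc⟩ := isConj_iff.mp hs
        rw [← hc, orderOf_conj', ht]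
    rw [h5]
    omega
  -- count the pairs by the Sylow subgroup
  have hfib : ∀ P : Sylow 3 G,
      Nat.card {s : G // orderOf s = 2 ∧ Inverts s (P : Subgroup G)} = 9 := by
    intro P
    obtain ⟨tP, htP, hinvP⟩ := h2 G hG P
    have hiff := h3 G hG P tP htP hinvP
    rw [← hcardP P]
    refine Nat.card_congr ?_
    exact {
      toFun := fun s => ⟨tP⁻¹ * s.1, by
        obtain ⟨x, hx, hs⟩ := (hiff s.1).mp s.2
        rw [hs, inv_mul_cancel_left]; exact hx⟩
      invFun := fun x => ⟨tP * x.1, (hiff _).mpr ⟨x.1, x.2, rfl⟩⟩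
      left_inv := fun s => by ext; simp
      right_inv := fun x => by ext; simp }
  have hX1 : Nat.card {x : G × Sylow 3 G // orderOf x.1 = 2 ∧ Inverts x.1 (x.2 : Subgroup G)}
      = 55 * 9 := by
    have e1 : {x : G × Sylow 3 G // orderOf x.1 = 2 ∧ Inverts x.1 (x.2 : Subgroup G)}
        ≃ Σ P : Sylow 3 G, {s : G // orderOf s = 2 ∧ Inverts s (P : Subgroup G)} :=
      { toFun := fun x => ⟨x.1.2, ⟨x.1.1, x.2⟩⟩
        invFun := fun y => ⟨(y.2.1, y.1), y.2.2⟩
        left_inv := fun x => rfl
        right_inv := fun y => rfl }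
    rw [Nat.card_congr e1, Nat.card_sigma, Finset.sum_congr rfl (fun P _ => hfib P),
      Finset.sum_const, Finset.card_univ, ← Nat.card_eq_fintype_card, hsyl, smul_eq_mul]
  have hX2 : Nat.card {x : G × Sylow 3 G // orderOf x.1 = 2 ∧ Inverts x.1 (x.2 : Subgroup G)}
      = 165 * Nat.card {P : Sylow 3 G // Inverts t (P : Subgroup G)} := by
    have : Fintype {s : G // orderOf s = 2} := Fintype.ofFinite _
    have e2 : {x : G × Sylow 3 G // orderOf x.1 = 2 ∧ Inverts x.1 (x.2 : Subgroup G)}
        ≃ Σ s : {s : G // orderOf s = 2}, {P : Sylow 3 G // Inverts s.1 (P : Subgroup G)} :=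
      { toFun := fun x => ⟨⟨x.1.1, x.2.1⟩, ⟨x.1.2, x.2.2⟩⟩
        invFun := fun y => ⟨(y.1.1, y.2.1), ⟨y.1.2, y.2.2⟩⟩
        left_inv := fun x => rfl
        right_inv := fun y => rfl }
    have hfib2 : ∀ s : {s : G // orderOf s = 2},
        Nat.card {P : Sylow 3 G // Inverts s.1 (P : Subgroup G)}
          = Nat.card {P : Sylow 3 G // Inverts t (P : Subgroup G)} := by
      intro s
      exact card_inverts_eq s.1 t (h1 G hG s.1 t s.2 ht)
    rw [Nat.card_congr e2, Nat.card_sigma, Finset.sum_congr rfl (fun s _ => hfib2 s),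
      Finset.sum_const, Finset.card_univ, ← Nat.card_eq_fintype_card, hinv, smul_eq_mul]
  rw [hX1] at hX2
  omega

end Cfsg.Agent.Lib.Helper57.MUTHREE
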