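import Mathlib
import Cfsg.Agent.Lib.Helper41.OMStmt
import Cfsg.Agent.Lib.Helper13.OFPL1

/-!
# S5978, piece PL1G (`SaJ → Eig1G → ReflS → PL1G`): generalization of `Helper13.OFPL1`
-/

set_option autoImplicit false

namespace Cfsg.Agent.Lib.Helper57.OMPL1G

open Matrix
open Cfsg.Agent.Lib.Helper41.OFStmt (SaJ ReflS)
open Cfsg.Agent.Lib.Helper41.OMStmt
open Cfsg.Agent.Lib.Helper13.OFPL1 (conj_mul conj_one conj_smul congr_mul left_mul right_mul)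

universe u

theorem main (hSaJ : SaJ.{u}) (hEig1 : Eig1G.{u}) (hReflS : ReflS.{u}) : PL1G.{u} := by
  intro F _ _ h2 ι _ _ _ hev S hS hSdet l hl x hx hxx hxdet
  obtain ⟨k₁, k₂, P, P', S₁, S₂, hk, hPP', hP'P, hS₁, hS₁d, hS₂, hS₂d, hPS, hxP⟩ :=
    hEig1 h2 hev S x hS hSdet hx hxx hxdet
  have hcard : 0 < Fintype.card ι := Fintype.card_pos
  obtain ⟨J₁, hJ₁, hSJ₁⟩ := hSaJ h2 l hl k₁ S₁ hS₁ hS₁d
  obtain ⟨J₂, hJ₂, hSJ₂⟩ := hSaJ h2 l hl k₂ S₂ hS₂ hS₂d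
  obtain ⟨X, hX⟩ : ∃ X : Matrix (Fin (2 * k₁) ⊕ Fin (2 * k₂)) (Fin (2 * k₁) ⊕ Fin (2 * k₂)) F,
      X = Matrix.fromBlocks 1 0 0 (-1) := ⟨_, rfl⟩
  obtain ⟨D, hD⟩ : ∃ D : Matrix (Fin (2 * k₁) ⊕ Fin (2 * k₂)) (Fin (2 * k₁) ⊕ Fin (2 * k₂)) F,
      D = Matrix.fromBlocks S₁ 0 0 S₂ := ⟨_, rfl⟩
  have hxP' : x * P = P * X := by rw [hX]; exact hxP
  have hPS' : Pᵀ * S * P = D := by rw [hD]; exact hPS
  have hT : ∃ T : Matrix (Fin (2 * k₁) ⊕ Fin (2 * k₂)) (Fin (2 * k₁) ⊕ Fin (2 * k₂)) F,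
      Tᵀ * D * T = D ∧ T * T = 1 ∧ T.det = -1 ∧ T * X = X * T := by
    by_cases hk1 : 1 ≤ k₁
    · obtain ⟨t₁, ht1, ht2, ht3⟩ := hReflS h2 (2 * k₁) (by omega) S₁ hS₁ hS₁d
      refine ⟨Matrix.fromBlocks t₁ 0 0 1, ?_, ?_, ?_, ?_⟩
      · rw [hD]
        simp [Matrix.fromBlocks_transpose, Matrix.fromBlocks_multiply, ht1]
      · simp [Matrix.fromBlocks_multiply, ht2, Matrix.fromBlocks_one]
      · rw [Matrix.det_fromBlocks_zero₂₁, ht3]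
        simp
      · rw [hX]
        simp [Matrix.fromBlocks_multiply]
    · have hk2 : 1 ≤ k₂ := by omega
      obtain ⟨t₂, ht1, ht2, ht3⟩ := hReflS h2 (2 * k₂) (by omega) S₂ hS₂ hS₂d
      refine ⟨Matrix.fromBlocks 1 0 0 t₂, ?_, ?_, ?_, ?_⟩
      · rw [hD]
        simp [Matrix.fromBlocks_transpose, Matrix.fromBlocks_multiply, ht1]
      · simp [Matrix.fromBlocks_multiply, ht2, Matrix.fromBlocks_one]
      · rw [Matrix.det_fromBlocks_zero₂₁, ht3]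
        simp
      · rw [hX]
        simp [Matrix.fromBlocks_multiply]
  obtain ⟨T, hT1, hT2, hT3, hT4⟩ := hT
  have hS0 : S = P'ᵀ * D * P' := by
    rw [← hPS']
    calc S = (P * P')ᵀ * S * (P * P') := by rw [hPP']; simp
      _ = P'ᵀ * (Pᵀ * S * P) * P' := by
        rw [Matrix.transpose_mul]; simp only [Matrix.mul_assoc]
  have hxe : x = P * X * P' := by
    rw [← hxP', Matrix.mul_assoc, hPP', Matrix.mul_one]
  obtain ⟨JJ, hJJ⟩ : ∃ JJ : Matrix (Fin (2 * k₁) ⊕ Fin (2 * k₂)) (Fin (2 * k₁) ⊕ Fin (2 * k₂)) F,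
      JJ = Matrix.fromBlocks J₁ 0 0 J₂ := ⟨_, rfl⟩
  have hJJ1 : JJ * JJ = l • 1 := by
    rw [hJJ, Matrix.fromBlocks_multiply, ← Matrix.fromBlocks_one, Matrix.fromBlocks_smul]
    simp [hJ₁, hJ₂]
  have hJJ2 : D * JJ = JJᵀ * D := by
    rw [hJJ, hD, Matrix.fromBlocks_transpose, Matrix.fromBlocks_multiply,
      Matrix.fromBlocks_multiply]
    simp [hSJ₁, hSJ₂]
  have hJJ3 : X * JJ = JJ * X := by
    rw [hJJ, hX, Matrix.fromBlocks_multiply, Matrix.fromBlocks_multiply]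
    simp
  refine ⟨P * JJ * P', P * T * P', ?_, ?_, ?_, ?_, ?_, ?_, ?_⟩
  · rw [conj_mul hP'P, hJJ1, conj_smul hPP' l]
  · rw [hS0, left_mul hP'P, right_mul hP'P, hJJ2]
  · rw [hxe, conj_mul hP'P, conj_mul hP'P, hJJ3]
  · rw [hS0, congr_mul hP'P, hT1]
  · rw [conj_mul hP'P, hT2, conj_one hPP']
  · rw [Matrix.det_conj_of_mul_eq_one hPP' hP'P, hT3]
  · rw [hxe, conj_mul hP'P, conj_mul hP'P, hT4]

end Cfsg.Agent.Lib.Helper57.OMPL1G
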