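import Mathlib
import Cfsg.Agent.Lib.Helper56.PEStmt

/-!
# S2276 / K59 : a full 9-cycle against three 3-cycles
-/

set_option autoImplicit false

namespace Cfsg.Agent.Lib.Helper57.PEK59

open Equiv Equiv.Perm Cfsg.Agent.Lib.Helper56

/-- the `9`-cycle `i ↦ i + 1` -/
def r9 : Perm (Fin 9) :=
  ⟨![1, 2, 3, 4, 5, 6, 7, 8, 0], ![8, 0, 1, 2, 3, 4, 5, 6, 7], by decide, by decide⟩

/-- `(0 2 1)(3 5 4)(6 7 8)` -/
def t9 : Perm (Fin 9) :=
  ⟨![2, 0, 1, 5, 3, 4, 7, 8, 6], ![1, 2, 0, 4, 5, 3, 8, 6, 7], by decide, by decide⟩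

theorem t9_eq : t9 = swap 0 1 * swap 0 2 * (swap 3 4 * swap 3 5) * (swap 6 8 * swap 6 7) := by
  decide

theorem t9_cycleType : t9.cycleType = {3, 3, 3} := by
  have h1 : IsThreeCycle (swap (0 : Fin 9) 1 * swap 0 2) :=
    isThreeCycle_swap_mul_swap_same (by decide) (by decide) (by decide)
  have h2 : IsThreeCycle (swap (3 : Fin 9) 4 * swap 3 5) :=
    isThreeCycle_swap_mul_swap_same (by decide) (by decide) (by decide)
  have h3 : IsThreeCycle (swap (6 : Fin 9) 8 * swap 6 7) :=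
    isThreeCycle_swap_mul_swap_same (by decide) (by decide) (by decide)
  have d1 : Perm.Disjoint (swap (0 : Fin 9) 1 * swap 0 2) (swap 3 4 * swap 3 5) := by
    intro x
    revert x
    decide
  have d2 : Perm.Disjoint (swap (0 : Fin 9) 1 * swap 0 2 * (swap 3 4 * swap 3 5))
      (swap 6 8 * swap 6 7) := by
    intro x
    revert x
    decide
  rw [t9_eq, Perm.Disjoint.cycleType_mul d2, Perm.Disjoint.cycleType_mul d1, h1.cycleType, h2.cycleType, h3.cycleType]
  rfl

theorem r9_val : ∀ i : Fin 9, ((r9 i : Fin 9) : ℕ) = if (i : ℕ) = 8 then 0 else (i : ℕ) + 1 := by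
  decide

theorem x_ne_one : r9 * t9 ≠ 1 := by decide

theorem x_pow : (r9 * t9) ^ 5 = 1 := by decide

theorem cert : r9 * t9 = (t9 * r9⁻¹ * t9 * r9 * t9) *
    ((r9 * t9) * (r9 * (r9 * t9) * r9⁻¹) * (r9 * t9)⁻¹ * (r9 * (r9 * t9) * r9⁻¹)⁻¹) *
      (t9 * r9⁻¹ * t9 * r9 * t9)⁻¹ := by decide

theorem main (hCyc : PEStmt.CycPts) (hNSC : PEStmt.NSCert) : PEStmt.K59 := by
  intro β _ _ c hc hsupp hcard
  obtain ⟨hc9, hinj, hsurj⟩ := hCyc c hc hsupp
  rw [hcard] at hc9 hinj hsurj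
  obtain ⟨x₀⟩ : Nonempty β := Fintype.card_pos_iff.mp (by omega)
  have hbij : Function.Bijective (fun i : Fin 9 => (c ^ (i : ℕ)) x₀) := by
    constructor
    · intro i j hij
      exact Fin.ext (hinj x₀ i j i.2 j.2 hij)
    · intro y
      obtain ⟨i, hi, hy⟩ := hsurj x₀ y
      exact ⟨⟨i, hi⟩, hy⟩
  obtain ⟨e, he⟩ : ∃ e : Fin 9 ≃ β, ∀ i : Fin 9, e i = (c ^ (i : ℕ)) x₀ :=
    ⟨Equiv.ofBijective _ hbij, fun i => rfl⟩
  have hstep : ∀ i : Fin 9, e (r9 i) = c (e i) := by
    intro i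
    rw [he, he, r9_val]
    split_ifs with h8
    · rw [h8, ← Perm.mul_apply, ← pow_succ', hc9]
      rfl
    · rw [pow_succ', Perm.mul_apply]
  obtain ⟨f, hf⟩ : ∃ f : Fin 9 ≃ {y : β // True}, ∀ i : Fin 9, ((f i : {y : β // True}) : β) = e i :=
    ⟨e.trans (Equiv.subtypeUnivEquiv (p := fun _ : β => True) (fun _ => trivial)).symm,
      fun i => rfl⟩
  have hinjΦ : Function.Injective (extendDomainHom f) := extendDomainHom_injective f
  have hΦ : ∀ (g : Perm (Fin 9)) (i : Fin 9), extendDomainHom f g (e i) = e (g i) := by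
    intro g i
    rw [← hf i, ← hf (g i)]
    exact extendDomain_apply_image g f i
  have hcΦ : extendDomainHom f r9 = c := by
    ext y
    obtain ⟨i, rfl⟩ := e.surjective y
    rw [hΦ, hstep]
  refine ⟨extendDomainHom f t9, ?_, ?_, ?_⟩
  · exact (cycleType_extendDomain f).trans t9_cycleType
  · rintro ⟨k, hk⟩
    rw [← hcΦ, ← map_mul, orderOf_injective _ hinjΦ] at hk
    haveI : Fact (Nat.Prime 5) := ⟨by norm_num⟩
    rw [orderOf_eq_prime x_pow x_ne_one] at hk
    rcases k with _ | k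
    · norm_num at hk
    · have h3 : 3 ∣ 5 := ⟨3 ^ k, by rw [hk, pow_succ]; ring⟩
      exact absurd h3 (by decide)
  · have hcmem : extendDomainHom f r9 ∈
        Subgroup.closure ({c, extendDomainHom f t9} : Set (Perm β)) := by
      rw [hcΦ]
      exact Subgroup.subset_closure (Set.mem_insert _ _)
    have htmem : extendDomainHom f t9 ∈
        Subgroup.closure ({c, extendDomainHom f t9} : Set (Perm β)) :=
      Subgroup.subset_closure (Set.mem_insert_of_mem _ (Set.mem_singleton _))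
    have hid := congrArg (extendDomainHom f) cert
    simp only [map_mul, map_inv] at hid
    refine hNSC (Subgroup.closure ({c, extendDomainHom f t9} : Set (Perm β)))
      (extendDomainHom f r9 * extendDomainHom f t9) (extendDomainHom f r9)
      (extendDomainHom f t9 * (extendDomainHom f r9)⁻¹ * extendDomainHom f t9 *
        extendDomainHom f r9 * extendDomainHom f t9) ?_ hcmem ?_ ?_ hid
    · exact Subgroup.mul_mem _ hcmem htmem
    · exact Subgroup.mul_mem _ (Subgroup.mul_mem _ (Subgroup.mul_mem _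
        (Subgroup.mul_mem _ htmem (Subgroup.inv_mem _ hcmem)) htmem) hcmem) htmem
    · intro h1
      rw [← map_mul] at h1
      exact x_ne_one (hinjΦ (h1.trans (map_one _).symm))

end Cfsg.Agent.Lib.Helper57.PEK59
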