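import Mathlib
import Cfsg.Agent.Lib.Helper44.PGStmt
import Cfsg.Agent.Lib.Helper44.OCls2
import Cfsg.Agent.Lib.Helper38.S8SINGER

set_option autoImplicit false

/-! Piece OTM of S2474: a split torus element, an isometry of order exactly `K ∣ q ^ k - 1` of
the hyperbolic space of dimension `2k` (a power of a Singer cycle `A` of `GL_k(q)` acting as
`A ⊕ A⁻ᵀ`). -/

namespace Cfsg.Agent.Lib.Helper57.PGOTM

open Matrix Polynomial
open Cfsg.Agent.Lib.Helper44.QSpace Cfsg.Agent.Lib.Helper44.OGroup Cfsg.Agent.Lib.Helper44.OMat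
open Cfsg.Agent.Lib.Helper44.OExt
open Cfsg.Agent.Lib.Helper44.PGStmt

universe u

theorem main : Cfsg.Agent.Lib.Helper44.PGStmt.OTorMinus.{u} := by
  intro F _ _ h2 k K hk hK
  classical
  obtain ⟨A₀, hA₀⟩ := Cfsg.Agent.Lib.Helper38.S8SINGER.main F k hk
  have hq1 : 1 < Fintype.card F := Fintype.one_lt_card
  have hpos : 0 < Fintype.card F ^ k - 1 := by
    have : 1 < Fintype.card F ^ k := Nat.one_lt_pow (by omega) hq1
    omega
  obtain ⟨c, hc⟩ := hK
  have hKpos : 0 < K := by
    rcases Nat.eq_zero_or_pos K with h | h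
    · rw [h, zero_mul] at hc
      omega
    · exact h
  have hcpos : 0 < c := by
    rcases Nat.eq_zero_or_pos c with h | h
    · rw [h, mul_zero] at hc
      omega
    · exact h
  obtain ⟨B, hB⟩ : ∃ B : GL (Fin k) F, B = A₀ ^ c := ⟨_, rfl⟩
  have hBord : orderOf B = K := by
    rw [hB, orderOf_pow' A₀ (by omega), hA₀, hc, Nat.gcd_eq_right (Dvd.intro_left _ rfl)]
    exact Nat.mul_div_cancel _ hcpos
  obtain ⟨A, hA⟩ : ∃ A : Matrix (Fin k) (Fin k) F, A = (B : Matrix (Fin k) (Fin k) F) := ⟨_, rfl⟩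
  obtain ⟨A', hA'⟩ : ∃ A' : Matrix (Fin k) (Fin k) F,
      A' = ((B⁻¹ : GL (Fin k) F) : Matrix (Fin k) (Fin k) F) := ⟨_, rfl⟩
  have h1 : A * A' = 1 := by
    rw [hA, hA', ← Units.val_mul, mul_inv_cancel]
    rfl
  have h2' : A' * A = 1 := by
    rw [hA, hA', ← Units.val_mul, inv_mul_cancel]
    rfl
  have hpowA : ∀ j : ℕ, A ^ j = 1 ↔ K ∣ j := by
    intro j
    rw [← hBord, orderOf_dvd_iff_pow_eq_one]
    constructor
    · intro h
      apply Units.ext
      rw [Units.val_pow_eq_pow_val, ← hA]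
      exact h
    · intro h
      rw [hA, ← Units.val_pow_eq_pow_val, h]
      rfl
  have hpowA' : ∀ j : ℕ, A ^ j = 1 → A' ^ j = 1 := by
    intro j h
    have hcm : Commute A' A := by
      show A' * A = A * A'
      rw [h1, h2']
    calc A' ^ j = A' ^ j * A ^ j := by rw [h, mul_one]
      _ = (A' * A) ^ j := (hcm.mul_pow j).symm
      _ = 1 := by rw [h2', one_pow]
  refine ⟨Fin k ⊕ Fin k, inferInstance, inferInstance, fromBlocks 0 1 0 0,
    fromBlocks A 0 0 A'ᵀ, ?_, ?_, ?_, ?_⟩
  · rw [Fintype.card_sum, Fintype.card_fin]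
    omega
  · rw [fromBlocks_transpose, fromBlocks_add]
    simp only [transpose_zero, transpose_one, add_zero, zero_add]
    intro hdet
    have hsq : (fromBlocks (0 : Matrix (Fin k) (Fin k) F) (1 : Matrix (Fin k) (Fin k) F)
        (1 : Matrix (Fin k) (Fin k) F) (0 : Matrix (Fin k) (Fin k) F))
        * fromBlocks (0 : Matrix (Fin k) (Fin k) F) (1 : Matrix (Fin k) (Fin k) F)
          (1 : Matrix (Fin k) (Fin k) F) (0 : Matrix (Fin k) (Fin k) F) = 1 := by
      rw [fromBlocks_multiply]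
      simp [fromBlocks_one]
    have h3 := congrArg Matrix.det hsq
    rw [det_mul, hdet, zero_mul, det_one] at h3
    exact zero_ne_one h3
  · intro u
    apply qN_isom
    rw [fromBlocks_transpose, fromBlocks_multiply, fromBlocks_multiply]
    simp only [transpose_zero, transpose_transpose, Matrix.mul_zero, Matrix.zero_mul, add_zero,
      zero_add, Matrix.mul_one]
    rw [← transpose_mul, h2', transpose_one]
  · intro j
    rw [Cfsg.Agent.Lib.Helper44.OCls2.fromBlocks_diag_pow, ← hpowA j]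
    constructor
    · intro h
      rw [← fromBlocks_one] at h
      exact (fromBlocks_inj.mp h).1
    · intro h
      rw [h, ← transpose_pow, hpowA' j h, transpose_one, fromBlocks_one]

end Cfsg.Agent.Lib.Helper57.PGOTM
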