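import Mathlib
import Cfsg.Agent.Lib.Helper46.PUStmt

set_option autoImplicit false

/-! Piece ROOT of S2263: common exponent of the roots, from the orbit structure and the
arithmetic pieces. -/

namespace Cfsg.Agent.Lib.Helper57.PUROOT

open Cfsg.Agent.Lib.Helper46.PUStmt

universe u

theorem main (h1 : OrbStruct.{u}) (h2 : NNFacts) (h3 : Ar1) (h4 : Ar2) (h5 : Ar3) (h6 : BndGe) :
    RootCore.{u} := by
  intro K _ p f d _ _ hf hd hnot E μ h0 hE hsum
  have hp : p.Prime := Fact.out
  have hq2 : 2 ≤ p ^ f := by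
    calc 2 ≤ p := hp.two_le
      _ = p ^ 1 := (pow_one p).symm
      _ ≤ p ^ f := Nat.pow_le_pow_right hp.pos hf
  obtain ⟨r, a, m, o, hi, hii, hiii, hiv⟩ := h1 K p f hf E μ h0 hE
  rw [hsum] at hii
  have hbg := h6 p f d hp hf hd
  have hclog : ∀ n : ℕ, n ≤ p ^ Nat.clog p n := fun n => Nat.le_pow_clog hp.one_lt n
  rcases Nat.lt_or_ge r 3 with hr3 | hr3
  · interval_cases r
    · -- no orbit
      simp at hii
      omega
    · -- one orbit
      have hsum1 : a 0 * m 0 = d := by simpa using hii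
      obtain ⟨ha0, hm0⟩ := hi 0 (by norm_num)
      obtain ⟨hdvd, hpos, -, -, -⟩ := h2 (p ^ f) (a 0) hq2 ha0
      have hEne : E.Nonempty := by
        rw [Finset.nonempty_iff_ne_empty]
        rintro rfl
        simp at hsum
        omega
      obtain ⟨x₀, hx₀⟩ := hEne
      have ho : ∀ x ∈ E, o x = 0 := fun x hx => by
        have := (hiii x hx).1
        omega
      refine ⟨nn (p ^ f) (a 0) / (p ^ f + 1), Nat.clog p (m 0),
        x₀ ^ (nn (p ^ f) (a 0) / (p ^ f + 1)), ?_, ?_, ?_, ?_, ?_⟩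
      · exact Nat.div_pos (Nat.le_of_dvd hpos hdvd) (by omega)
      · intro x hx
        have h := hiv x₀ hx₀ x hx (by rw [ho x₀ hx₀, ho x hx])
        rw [ho x₀ hx₀] at h
        exact h
      · rw [← pow_mul, Nat.div_mul_cancel hdvd]
        have h := (hiii x₀ hx₀).2.2
        rw [ho x₀ hx₀] at h
        exact h
      · intro x hx
        rw [(hiii x hx).2.1, ho x hx]
        exact hclog _
      · have h := h3 p f (a 0) (m 0) hp hf ha0 hm0 (by rw [hsum1]; exact hd)
          (by rw [hsum1]; exact hnot)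
        rw [hsum1] at h
        rw [mul_comm]
        exact Nat.le_of_add_le_add_right (le_trans h hbg)
    · -- two orbits
      have hsum2 : a 0 * m 0 + a 1 * m 1 = d := by simpa [Finset.sum_range_succ] using hii
      obtain ⟨ha0, hm0⟩ := hi 0 (by norm_num)
      obtain ⟨ha1, hm1⟩ := hi 1 (by norm_num)
      obtain ⟨hdvd0, hpos0, -, -, -⟩ := h2 (p ^ f) (a 0) hq2 ha0
      obtain ⟨hdvd1, hpos1, -, -, -⟩ := h2 (p ^ f) (a 1) hq2 ha1
      refine ⟨Nat.lcm (nn (p ^ f) (a 0)) (nn (p ^ f) (a 1)), Nat.clog p (max (m 0) (m 1)), 1,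
        ?_, ?_, ?_, ?_, ?_⟩
      · exact Nat.lcm_pos hpos0 hpos1
      · intro x hx
        obtain ⟨hox, -, hxn⟩ := hiii x hx
        have ho : o x = 0 ∨ o x = 1 := by omega
        rcases ho with ho | ho
        · rw [ho] at hxn
          obtain ⟨c, hc⟩ := Nat.dvd_lcm_left (nn (p ^ f) (a 0)) (nn (p ^ f) (a 1))
          rw [hc, pow_mul, hxn, one_pow]
        · rw [ho] at hxn
          obtain ⟨c, hc⟩ := Nat.dvd_lcm_right (nn (p ^ f) (a 0)) (nn (p ^ f) (a 1))
          rw [hc, pow_mul, hxn, one_pow]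
      · exact one_pow _
      · intro x hx
        obtain ⟨hox, hμ, -⟩ := hiii x hx
        rw [hμ]
        have ho : o x = 0 ∨ o x = 1 := by omega
        rcases ho with ho | ho
        · rw [ho]
          exact le_trans (le_max_left _ _) (hclog _)
        · rw [ho]
          exact le_trans (le_max_right _ _) (hclog _)
      · have h := h4 p f (a 0) (m 0) (a 1) (m 1) hp hf ha0 hm0 ha1 hm1 (by rw [hsum2]; exact hd)
        rw [hsum2] at h
        rw [mul_comm]
        exact h
  · -- at least three orbits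
    obtain ⟨M, hM⟩ : ∃ M, M = (Finset.range r).sup m := ⟨_, rfl⟩
    have hne : (Finset.range r).Nonempty := ⟨0, Finset.mem_range.mpr (by omega)⟩
    obtain ⟨i₀, hi₀, hi₀M⟩ := Finset.exists_mem_eq_sup (Finset.range r) hne m
    have hleM : ∀ i < r, m i ≤ M := fun i hi' => by
      rw [hM]
      exact Finset.le_sup (f := m) (Finset.mem_range.mpr hi')
    refine ⟨(Finset.range r).lcm (fun i => nn (p ^ f) (a i)), Nat.clog p M, 1, ?_, ?_, ?_, ?_, ?_⟩
    · rw [Nat.pos_iff_ne_zero]
      intro h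
      rw [Finset.lcm_eq_zero_iff] at h
      obtain ⟨i, hi', hzero⟩ := h
      have h' := (h2 (p ^ f) (a i) hq2 (hi i (Finset.mem_range.mp (Finset.mem_coe.mp hi'))).1).2.1
      omega
    · intro x hx
      obtain ⟨hox, -, hxn⟩ := hiii x hx
      obtain ⟨c, hc⟩ := Finset.dvd_lcm (f := fun i => nn (p ^ f) (a i)) (Finset.mem_range.mpr hox)
      rw [hc, pow_mul, hxn, one_pow]
    · exact one_pow _
    · intro x hx
      obtain ⟨hox, hμ, -⟩ := hiii x hx
      rw [hμ]
      exact le_trans (hleM _ hox) (hclog _)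
    · have h := h5 p f r M a m hp hf hr3
        (fun i hi' => ⟨(hi i hi').1, (hi i hi').2, hleM i hi'⟩)
        ⟨i₀, Finset.mem_range.mp hi₀, by rw [hM, hi₀M]⟩
      rw [hii] at h
      rw [mul_comm]
      exact Nat.le_of_add_le_add_right (le_trans h hbg)

end Cfsg.Agent.Lib.Helper57.PUROOT
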