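import Mathlib
import Cfsg.Agent.Lib.Helper18.ReeMultStmt

set_option autoImplicit false

/-! Piece AAB of S2113. -/

namespace Cfsg.Agent.Lib.Helper57.ReeMultAAB

open Cfsg.Agent.Lib.Helper18.ReeMultStmt Cfsg.Agent.Lib.Helper18

universe u v w

theorem x0_mul {G : Type u} [Group G] {K : Type v} [Field K] [Fintype K] {m : ℕ}
    {φ : K →+* K} {x : K → K → K → G} {e : K → G} (h : ReeOutStmt.OPar G K m φ x e)
    (U V U' V' : K) : x 0 U V * x 0 U' V' = x 0 (U + U') (V + V') := by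
  have h1 : (0 : K) + 0 = 0 := by ring
  have h2 : U + U' - 0 * φ 0 ^ 3 = U + U' := by ring
  have h3 : V + V' - U * 0 - 0 ^ 2 * φ 0 ^ 3 + 0 * 0 * φ 0 ^ 3 = V + V' := by ring
  rw [h.x_mul, h1, h2, h3]

theorem main : AAB.{u, v, w} := by
  intro Γ _ G _ K _ _ m φ x e σ E hZ hU u v u' v'
  have hpar := E.par
  have hc := E.cen
  have e1 : x 0 u v = x 0 u 0 * x 0 0 v := by rw [x0_mul hpar, add_zero, zero_add]
  have e2 : x 0 u' v' = x 0 u' 0 * x 0 0 v' := by rw [x0_mul hpar, add_zero, zero_add]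
  have s1 : cm σ E.surj (x 0 u v) (x 0 u' v') = cm σ E.surj (x 0 u 0) (x 0 u' v') := by
    rw [e1]
    exact cm_mul_left_one σ E.surj hc (hZ v 0 u' v')
  have s2 : cm σ E.surj (x 0 u 0) (x 0 u' v') = cm σ E.surj (x 0 u 0) (x 0 u' 0) := by
    rw [e2]
    apply cm_mul_right_one σ E.surj hc
    rw [← cm_inv, hZ v' 0 u 0, inv_one]
  rw [s1, s2]
  exact hU u u'

end Cfsg.Agent.Lib.Helper57.ReeMultAAB
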