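import Mathlib
import Cfsg.Agent.Lib.Helper18.ReeMultStmt

set_option autoImplicit false

/-! Piece LMUL of S2113. -/

namespace Cfsg.Agent.Lib.Helper57.ReeMultLMUL

open Cfsg.Agent.Lib.Helper18.ReeMultStmt Cfsg.Agent.Lib.Helper18

open scoped commutatorElement

universe u v w

section

variable {G : Type u} [Group G] {K : Type v} [Field K] [Fintype K] {m : ℕ}
    {φ : K →+* K} {x : K → K → K → G} {e : K → G}

theorem x0_mul (h : ReeOutStmt.OPar G K m φ x e)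
    (U V U' V' : K) : x 0 U V * x 0 U' V' = x 0 (U + U') (V + V') := by
  have h1 : (0 : K) + 0 = 0 := by ring
  have h2 : U + U' - 0 * φ 0 ^ 3 = U + U' := by ring
  have h3 : V + V' - U * 0 - 0 ^ 2 * φ 0 ^ 3 + 0 * 0 * φ 0 ^ 3 = V + V' := by ring
  rw [h.x_mul, h1, h2, h3]

theorem x000 (h : ReeOutStmt.OPar G K m φ x e) : x 0 0 0 = 1 := by
  have h1 := x0_mul h 0 0 0 0
  rw [add_zero] at h1
  exact mul_left_cancel (a := x 0 0 0) (h1.trans (mul_one _).symm)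

theorem x0_inv (h : ReeOutStmt.OPar G K m φ x e) (U V : K) : (x 0 U V)⁻¹ = x 0 (-U) (-V) := by
  apply inv_eq_of_mul_eq_one_right
  rw [x0_mul h, add_neg_cancel, add_neg_cancel]
  exact x000 h

theorem comm_form (h : ReeOutStmt.OPar G K m φ x e) (s : K) (hs : s ≠ 0) (U V : K) :
    ⁅e s, x 0 U V⁆ = x 0 (φ s ^ 3 / s * U + -U) (s * V + -V) := by
  have h1 := h.e_x s hs 0 U V
  rw [mul_zero] at h1
  rw [commutatorElement_def, h1, mul_inv_cancel_right, x0_inv h, x0_mul h]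

end

theorem main : LMUL.{u, v, w} := by
  intro Γ _ G _ K _ _ m φ x e σ E s₁ hs0 hs3 hA u v u' v'
  have hpar := E.par
  have hc := E.cen
  unfold lft
  have e1 : x 0 ((u + u') / (φ s₁ ^ 3 / s₁ - 1)) ((v + v') / (s₁ - 1)) =
      x 0 (u / (φ s₁ ^ 3 / s₁ - 1)) (v / (s₁ - 1)) *
        x 0 (u' / (φ s₁ ^ 3 / s₁ - 1)) (v' / (s₁ - 1)) := by
    rw [x0_mul hpar, add_div, add_div]
  rw [e1, cm_mul_right σ E.surj hc]
  congr 1
  have hcomm : sec σ E.surj (x 0 (u / (φ s₁ ^ 3 / s₁ - 1)) (v / (s₁ - 1))) *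
      cm σ E.surj (e s₁) (x 0 (u' / (φ s₁ ^ 3 / s₁ - 1)) (v' / (s₁ - 1))) =
      cm σ E.surj (e s₁) (x 0 (u' / (φ s₁ ^ 3 / s₁ - 1)) (v' / (s₁ - 1))) *
        sec σ E.surj (x 0 (u / (φ s₁ ^ 3 / s₁ - 1)) (v / (s₁ - 1))) := by
    apply comm_of_cm σ E.surj hc
    rw [sec_spec, map_cm, comm_form hpar s₁ hs0]
    exact hA _ _ _ _
  rw [hcomm, mul_inv_cancel_right]

end Cfsg.Agent.Lib.Helper57.ReeMultLMUL
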