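import Mathlib
import Cfsg.Agent.Lib.Helper45.S8Stmt
import Cfsg.Agent.Lib.Helper44.Der5

set_option autoImplicit false

/-! Piece MBL of S3589: an isometry of order `q^(n+1) + 1` of the minus-type form of dimension
`2n + 2` over a finite field of characteristic 2 (multiplication by a norm-one element of the
extension of degree `2(n+1)`, transported to the standard minus form). -/

namespace Cfsg.Agent.Lib.Helper57.S8MBL

open Module QuadraticMap
open Cfsg.Agent.Lib.Helper44.QSpace Cfsg.Agent.Lib.Helper44.OGroup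
open Cfsg.Agent.Lib.Helper44.CD2a Cfsg.Agent.Lib.Helper44.Inv1
open Cfsg.Agent.Lib.Helper44.NegPairs Cfsg.Agent.Lib.Helper44.QCount
open Cfsg.Agent.Lib.Helper44.Der1 Cfsg.Agent.Lib.Helper44.QClass
open Cfsg.Agent.Lib.Helper44.QBasis Cfsg.Agent.Lib.Helper44.SpinCount
open Cfsg.Agent.Lib.Helper44.Der5 Cfsg.Agent.Lib.Helper44

universe u

section

variable {F : Type u} [Field F] [Fintype F] [CharP F 2]

/-- a unit of order `q^d + 1` in the extension of degree `2d`, of norm one to the middle field -/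
theorem exists_zeta_full (d : ℕ) [NeZero (2 * d)] :
    ∃ ζ : (FiniteField.Extension F 2 (2 * d))ˣ, orderOf ζ = Fintype.card F ^ d + 1 ∧
      (ζ : FiniteField.Extension F 2 (2 * d)) * sig F d ζ = 1 := by
  obtain ⟨g, hg⟩ := IsCyclic.exists_ofOrder_eq_natCard (α := (FiniteField.Extension F 2 (2 * d))ˣ)
  rw [card_units_ext] at hg
  have hd : d ≠ 0 := by
    rintro rfl
    exact NeZero.ne (2 * 0) rfl
  have hq1 : 1 < Fintype.card F := Fintype.one_lt_card
  have hA' : 1 < Fintype.card F ^ d := Nat.one_lt_pow hd hq1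
  refine ⟨g ^ (Fintype.card F ^ d - 1), ?_, ?_⟩
  · rw [orderOf_pow' g (by omega), hg, Nat.gcd_eq_right (Dvd.intro _ rfl)]
    exact Nat.mul_div_cancel_left _ (by omega)
  · rw [sig_apply, ← pow_succ', ← Units.val_pow_eq_pow_val, ← pow_mul, ← hg, pow_orderOf_eq_one,
      Units.val_one]

end

theorem main : Cfsg.Agent.Lib.Helper45.S8Stmt.MBL.{u} := by
  intro F _ _ _ a b hab n
  classical
  have : NeZero (2 * (n + 1)) := ⟨by omega⟩
  have hfin : finrank F (FiniteField.Extension F 2 (2 * (n + 1))) = 2 * (n + 1) :=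
    FiniteField.finrank_extension F 2 _
  obtain ⟨θ, hθ⟩ := exists_theta F (n + 1)
  obtain ⟨ζ, hζ, hζσ⟩ := exists_zeta_full (F := F) (n + 1)
  have hσ := sig_sig F (n + 1)
  set Q' := trQ (sig F (n + 1)) θ with hQ'
  have hS' : Sep Q' := sep_trQ hσ hθ
  have hX₀ : Der2.mulE F ζ ∈ O Q' := mulE_mem ζ hζσ
  have hq1 : 1 < Fintype.card F := Fintype.one_lt_card
  have hA : 1 ≤ Fintype.card F ^ (n + 1) := Nat.one_le_pow _ _ Fintype.card_pos
  obtain ⟨r, hr, hdvd⟩ :=
    Nat.exists_prime_and_dvd (n := Fintype.card F ^ (n + 1) + 1) (by omega)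
  have : Fact r.Prime := ⟨hr⟩
  have hodd : r ≠ 2 := by
    rintro rfl
    obtain ⟨k, -, hk⟩ := FiniteField.card F 2
    have h2q : 2 ∣ Fintype.card F ^ (n + 1) := by
      apply dvd_pow _ (Nat.succ_ne_zero n)
      rw [hk]
      exact dvd_pow_self 2 k.ne_zero
    have h1 : 2 ∣ 1 := (Nat.dvd_add_right h2q).mp hdvd
    omega
  rcases exists_hyp_even n _ Q' hfin hS' with ⟨e, f, hH⟩ | ⟨e, f, x, y, ζ', hH, hE, horth⟩
  · exfalso
    obtain ⟨ξ, hξ, hξσ⟩ := exists_zeta F (n + 1) hdvd
    have hξ2 : ξ * ξ ≠ 1 := by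
      intro h
      have h2 : orderOf ξ ∣ 2 := orderOf_dvd_of_pow_eq_one (by rw [pow_two]; exact h)
      rw [hξ] at h2
      exact hodd ((Nat.prime_dvd_prime_iff_eq Fact.out Nat.prime_two).mp h2)
    have hY : Der2.mulE F ξ ∈ O Q' := mulE_mem ξ hξσ
    have hYr : Der2.mulE F ξ ^ r = 1 := by
      rw [mulE_pow, ← hξ, pow_orderOf_eq_one]
      have := mulE_pow (F := F) ξ 0
      rw [pow_zero, pow_zero] at this
      exact this.symm
    exact not_hyp_of_free Q' hH hfin hodd hdvd _ hY hYr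
      (fun v hv h => mulE_no_eigen ξ hξσ hξ2 v hv 1 (by rw [one_smul]; exact h))
  · obtain ⟨Ψ, hΨ⟩ := exists_iso_minus Q' hab hH hE horth hfin
    refine ⟨conjE Ψ (Der2.mulE F ζ), ?_, ?_⟩
    · intro v
      have h1 : minusQ n F a b (conjE Ψ (Der2.mulE F ζ) v) = minusQ n F a b v := by
        rw [conjE_apply, hΨ, hX₀, ← hΨ, LinearEquiv.apply_symm_apply]
      exact h1
    · rw [← hζ]
      rw [orderOf_eq_orderOf_iff]
      intro k
      rw [conjE_pow, mulE_pow]
      constructor
      · intro h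
        have h1 := congrArg
          (fun X : ((Fin n ⊕ Fin n) ⊕ Fin 2 → F) ≃ₗ[F] ((Fin n ⊕ Fin n) ⊕ Fin 2 → F) =>
            Ψ.symm (X (Ψ 1))) h
        simp only [conjE_apply, LinearEquiv.symm_apply_apply, Der2.mulE_apply, mul_one] at h1
        apply Units.ext
        rw [h1]
        simp
      · intro h
        rw [h]
        apply LinearEquiv.ext
        intro w
        rw [conjE_apply, Der2.mulE_apply, Units.val_one, one_mul, LinearEquiv.apply_symm_apply]
        rfl

end Cfsg.Agent.Lib.Helper57.S8MBL
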