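import Mathlib
import Cfsg.Agent.Lib.Helper45.S8Stmt

set_option autoImplicit false

/-! Piece R1 of S3589: in characteristic 2 with `a ≠ 0`, the transvection
`(z₁, z₂) ↦ (z₁ + a z₂, z₂)` is an isometry of order 2 of `z₁² + a z₁ z₂ + b z₂²`. -/

namespace Cfsg.Agent.Lib.Helper57.S8R1

universe u

theorem main : Cfsg.Agent.Lib.Helper45.S8Stmt.R1.{u} := by
  intro F _ _ a b ha
  classical
  have h2 : (2 : F) = 0 := CharTwo.two_eq_zero
  set E : Matrix ((Fin 0 ⊕ Fin 0) ⊕ Fin 2) ((Fin 0 ⊕ Fin 0) ⊕ Fin 2) F :=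
    Matrix.single (Sum.inr 0) (Sum.inr 1) a with hE
  have hEE : E * E = 0 := by
    rw [hE, Matrix.single_mul_single_of_ne]
    simp
  have hE2 : E + E = 0 := by
    rw [hE, ← Matrix.single_add, CharTwo.add_self_eq_zero, Matrix.single_zero]
  have hMM : (1 + E) * (1 + E) = 1 := by
    rw [add_mul, mul_add, mul_add, one_mul, mul_one, one_mul, hEE, add_zero, add_assoc, hE2,
      add_zero]
  let g : GL ((Fin 0 ⊕ Fin 0) ⊕ Fin 2) F := ⟨1 + E, 1 + E, hMM, hMM⟩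
  have hg : g ∈ Cfsg.isometryGroup F (Cfsg.quadFormMinus 0 F a b) := by
    intro u v
    have hgu : (Units.coeHom (Matrix ((Fin 0 ⊕ Fin 0) ⊕ Fin 2) ((Fin 0 ⊕ Fin 0) ⊕ Fin 2) F)) g
        = 1 + E := rfl
    have h0 : (Matrix.mulVec (1 + E) u) (Sum.inr 0) = u (Sum.inr 0) + a * u (Sum.inr 1) := by
      rw [Matrix.add_mulVec, Matrix.one_mulVec, hE, Matrix.single_mulVec]
      simp
    have h1 : (Matrix.mulVec (1 + E) u) (Sum.inr 1) = u (Sum.inr 1) := by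
      rw [Matrix.add_mulVec, Matrix.one_mulVec, hE, Matrix.single_mulVec]
      simp
    show Cfsg.quadFormMinus 0 F a b (Matrix.mulVec _ u) = Cfsg.quadFormMinus 0 F a b u
    rw [hgu]
    unfold Cfsg.quadFormMinus
    rw [h0, h1]
    simp only [Finset.univ_eq_empty, Finset.sum_empty, zero_add]
    linear_combination (a * u (Sum.inr 0) * u (Sum.inr 1) + a ^ 2 * u (Sum.inr 1) ^ 2) * h2
  refine ⟨⟨g, hg⟩, ?_⟩
  have : Fact (Nat.Prime 2) := ⟨Nat.prime_two⟩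
  refine orderOf_eq_prime ?_ ?_
  · apply Subtype.ext
    apply Units.ext
    show ((1 + E) ^ 2 : Matrix _ _ F) = 1
    rw [pow_two, hMM]
  · intro h
    have h' : (g : Matrix ((Fin 0 ⊕ Fin 0) ⊕ Fin 2) ((Fin 0 ⊕ Fin 0) ⊕ Fin 2) F) = 1 := by
      have := congrArg (fun x : ↥(Cfsg.isometryGroup F (Cfsg.quadFormMinus 0 F a b)) =>
        (x.1.1 : Matrix ((Fin 0 ⊕ Fin 0) ⊕ Fin 2) ((Fin 0 ⊕ Fin 0) ⊕ Fin 2) F)) h
      simpa using this
    have h'' : (1 + E) = (1 : Matrix ((Fin 0 ⊕ Fin 0) ⊕ Fin 2) ((Fin 0 ⊕ Fin 0) ⊕ Fin 2) F) := h'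
    have h3 : E = 0 := by simpa using h''
    have h4 : E (Sum.inr 0) (Sum.inr 1) = a := by
      rw [hE]; simp
    rw [h3] at h4
    exact ha (by simpa using h4.symm)

end Cfsg.Agent.Lib.Helper57.S8R1
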