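import Mathlib
import Cfsg.Agent.Lib.Helper40.SFStmt

set_option autoImplicit false

/-! Piece FIELD of S5664: a subspace `Λ` of a field extension of prime degree with
`2 ≤ dim Λ ≤ r - 1` has `x₁ x₂ ∉ x₀ Λ` for some `x₀ ∈ Λ \ 0`, `x₁, x₂ ∈ Λ`
(otherwise `x₀⁻¹ Λ` is a proper intermediate field). -/

namespace Cfsg.Agent.Lib.Helper57.SFFIELD

open Cfsg.Agent.Lib.Helper40.SFStmt

universe u

theorem main : FieldLem.{u} := by
  intro F L _ _ _ hr Λ h2 hle
  by_contra hcon
  push Not at hcon
  haveI : Module.Finite F L := Module.finite_of_finrank_pos hr.pos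
  haveI : Algebra.IsAlgebraic F L := Algebra.IsAlgebraic.of_finite F L
  obtain ⟨x₀, hx₀, hx₀ne⟩ : ∃ x₀ ∈ Λ, x₀ ≠ 0 := by
    by_contra hno
    push Not at hno
    have hbot : Λ = ⊥ := by
      rw [eq_bot_iff]
      intro x hx
      rw [Submodule.mem_bot]
      exact hno x hx
    rw [hbot, finrank_bot] at h2
    omega
  let A : Subalgebra F L :=
    { carrier := {z | x₀ * z ∈ Λ}
      mul_mem' := by
        intro a b ha hb
        obtain ⟨y, hy, hyeq⟩ := hcon x₀ hx₀ hx₀ne (x₀ * a) ha (x₀ * b) hb
        show x₀ * (a * b) ∈ Λ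
        have : x₀ * (a * b) = y := by
          apply mul_left_cancel₀ hx₀ne
          rw [← hyeq]
          ring
        rw [this]
        exact hy
      one_mem' := by
        show x₀ * 1 ∈ Λ
        rw [mul_one]
        exact hx₀
      add_mem' := by
        intro a b ha hb
        show x₀ * (a + b) ∈ Λ
        rw [mul_add]
        exact Λ.add_mem ha hb
      zero_mem' := by
        show x₀ * 0 ∈ Λ
        rw [mul_zero]
        exact Λ.zero_mem
      algebraMap_mem' := by
        intro r
        show x₀ * algebraMap F L r ∈ Λ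
        rw [Algebra.algebraMap_eq_smul_one, mul_smul_comm, mul_one]
        exact Λ.smul_mem r hx₀ }
  let E : IntermediateField F L := A.toIntermediateField (fun x hx =>
    A.inv_mem_of_algebraic (x := ⟨x, hx⟩) (Algebra.IsAlgebraic.isAlgebraic x))
  have hEmem : ∀ z : L, z ∈ E ↔ x₀ * z ∈ Λ := fun z => Iff.rfl
  have hfin : Module.finrank F E = Module.finrank F Λ := by
    apply LinearEquiv.finrank_eq
    exact
      { toFun := fun z => ⟨x₀ * z.1, (hEmem z.1).1 z.2⟩
        map_add' := fun z w => by
          apply Subtype.ext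
          show x₀ * ((z : L) + (w : L)) = x₀ * (z : L) + x₀ * (w : L)
          ring
        map_smul' := fun r z => by
          apply Subtype.ext
          show x₀ * (r • (z : L)) = r • (x₀ * (z : L))
          rw [mul_smul_comm]
        invFun := fun y => ⟨x₀⁻¹ * y.1, (hEmem _).2 (by
          rw [mul_inv_cancel_left₀ hx₀ne]
          exact y.2)⟩
        left_inv := fun z => Subtype.ext (inv_mul_cancel_left₀ hx₀ne _)
        right_inv := fun y => Subtype.ext (mul_inv_cancel_left₀ hx₀ne _) }
  have htower := Module.finrank_mul_finrank F E L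
  rw [hfin] at htower
  have hdvd : Module.finrank F Λ ∣ Module.finrank F L := ⟨_, htower.symm⟩
  rcases (Nat.dvd_prime hr).1 hdvd with h | h <;> omega

end Cfsg.Agent.Lib.Helper57.SFFIELD
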