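import Mathlib
import Cfsg.Agent.Lib.Helper12.SNStmt

namespace Cfsg.Agent.Lib.Helper57.SNARITH

theorem main : Cfsg.Agent.Lib.Helper12.SNStmt.Arith := by
  intro n hn F₀ _ _ r hr h2 h
  obtain ⟨p, _, a, hp, hcard⟩ := FiniteField.card' F₀
  have hn1 : n ≠ 1 := by
    rintro rfl
    norm_num at hn
  have hnp : n.Prime := (Nat.prime_of_pow_sub_one_prime hn1 hn).2
  have hn0 : n ≠ 0 := hnp.ne_zero
  rw [hcard, ← pow_mul] at h
  have hp2 : p = 2 := by
    have hdvd : p ∣ 2 ^ n := by
      rw [h]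
      exact dvd_pow_self p (Nat.mul_ne_zero a.ne_zero hr.ne_zero)
    have := hp.dvd_of_dvd_pow hdvd
    exact (Nat.prime_dvd_prime_iff_eq hp Nat.prime_two).mp this
  subst hp2
  have hna : n = (a : ℕ) * r := Nat.pow_right_injective (le_refl 2) h
  have ha1 : (a : ℕ) = 1 := by
    have hdvd : (a : ℕ) ∣ n := ⟨r, hna⟩
    rcases (Nat.dvd_prime hnp).mp hdvd with h1 | h1
    · exact h1
    · exfalso
      rw [h1] at hna
      have : r = 1 := by
        have h3 : n * 1 = n * r := by simpa using hna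
        exact (Nat.eq_of_mul_eq_mul_left hnp.pos h3).symm
      exact hr.one_lt.ne' this
  apply h2
  rw [hcard, ha1, pow_one]

end Cfsg.Agent.Lib.Helper57.SNARITH
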