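import Mathlib
import Cfsg.Agent.Lib.Helper26.T64Stmt

set_option autoImplicit false

/-! Piece FPF of S3157: for a fixed-point-free automorphism `ρ` of order 3 of a finite group,
`y ρ(y) ρ²(y) = 1` and `y` commutes with `ρ(y)`. -/

namespace Cfsg.Agent.Lib.Helper57.T64FPF

open Cfsg.Agent.Lib.Helper26.T64Stmt

universe u

theorem fpf_inj {T : Type u} [Group T] (ρ : MulAut T) (hfpf : Fpf T ρ) (a b : T)
    (h : a⁻¹ * ρ a = b⁻¹ * ρ b) : a = b := by
  have h1 : ρ (a * b⁻¹) = a * b⁻¹ := by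
    rw [map_mul, map_inv]
    have h2 : ρ a = a * (b⁻¹ * ρ b) := by rw [← h, mul_inv_cancel_left]
    rw [h2]
    group
  have h2 := hfpf _ h1
  exact mul_inv_eq_one.mp h2

theorem main : Cfsg.Agent.Lib.Helper26.T64Stmt.FPF.{u} := by
  intro T _ _ ρ hρ hfpf
  have hρ3 : ∀ t : T, ρ (ρ (ρ t)) = t := by
    intro t
    have h := pow_orderOf_eq_one ρ
    rw [hρ] at h
    have h' := congrArg (fun σ : MulAut T => σ t) h
    simpa [pow_succ, MulAut.mul_apply] using h'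
  have hLsurj : Function.Surjective (fun y : T => y⁻¹ * ρ y) :=
    Finite.injective_iff_surjective.mp (fun a b h => fpf_inj ρ hfpf a b h)
  have hP : ∀ g : T, g * ρ g * ρ (ρ g) = 1 := by
    intro g
    obtain ⟨y, rfl⟩ := hLsurj g
    show y⁻¹ * ρ y * ρ (y⁻¹ * ρ y) * ρ (ρ (y⁻¹ * ρ y)) = 1
    simp only [map_mul, map_inv, hρ3]
    group
  intro y
  refine ⟨hP y, ?_⟩
  have h1 := hP y
  have h2 := hP y⁻¹
  simp only [map_inv] at h2
  have h3 : ρ (ρ y) * ρ y * y = 1 := by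
    have := congrArg (fun t => t⁻¹) h2
    simpa [mul_inv_rev, mul_assoc] using this
  have h4 : ρ y * ρ (ρ y) = ρ (ρ y) * ρ y := by
    have a1 : ρ y * ρ (ρ y) = y⁻¹ := by
      rw [mul_assoc] at h1
      exact eq_inv_of_mul_eq_one_right h1
    have a2 : ρ (ρ y) * ρ y = y⁻¹ := eq_inv_of_mul_eq_one_left h3
    rw [a1, a2]
  have h5 : ρ (y * ρ y) = ρ (ρ y * y) := by
    rw [map_mul, map_mul]
    exact h4
  exact ρ.injective h5

end Cfsg.Agent.Lib.Helper57.T64FPF
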