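import Mathlib
import Cfsg.Agent.Lib.Helper26.T64Stmt

set_option autoImplicit false

/-! Piece LANG of S3157: for a fixed-point-free automorphism `ρ` of a finite group, an invariant
subgroup containing `t⁻¹ ρ(t)` contains `t`. -/

namespace Cfsg.Agent.Lib.Helper57.T64LANG

open Cfsg.Agent.Lib.Helper26.T64Stmt

universe u

theorem lang_inj {T : Type u} [Group T] (ρ : MulAut T) (hfpf : Fpf T ρ) (a b : T)
    (h : a⁻¹ * ρ a = b⁻¹ * ρ b) : a = b := by
  have h1 : ρ (a * b⁻¹) = a * b⁻¹ := by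
    rw [map_mul, map_inv]
    have h2 : ρ a = a * (b⁻¹ * ρ b) := by rw [← h, mul_inv_cancel_left]
    rw [h2]
    group
  have h2 := hfpf _ h1
  exact mul_inv_eq_one.mp h2

theorem main : Cfsg.Agent.Lib.Helper26.T64Stmt.LANG.{u} := by
  intro T _ _ ρ hfpf N hN t ht
  let L : N → N := fun n => ⟨n.1⁻¹ * ρ n.1, N.mul_mem (N.inv_mem n.2) (hN n.1 n.2)⟩
  have hLinj : Function.Injective L := by
    intro a b h
    apply Subtype.ext
    apply lang_inj ρ hfpf
    exact congrArg Subtype.val h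
  have hLsurj : Function.Surjective L := Finite.injective_iff_surjective.mp hLinj
  obtain ⟨w, hw⟩ := hLsurj ⟨t⁻¹ * ρ t, ht⟩
  have h3 : w.1⁻¹ * ρ w.1 = t⁻¹ * ρ t := congrArg Subtype.val hw
  have h4 : (w : T) = t := lang_inj ρ hfpf _ _ h3
  rw [← h4]
  exact w.2

end Cfsg.Agent.Lib.Helper57.T64LANG
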