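import Mathlib
import Cfsg.Agent.Lib.Helper88.VFStmt

set_option autoImplicit false

/-! Piece CHAIN of S5286. -/

namespace Cfsg.Agent.Lib.Helper57.VFCHAIN

open Cfsg Cfsg.Agent.Lib.Helper88.VFDefs Cfsg.Agent.Lib.Helper88.VFStmt

universe u

theorem map_eq_self_mem {α : Type*} (f : α → α) :
    ∀ (L : List α), L.map f = L → ∀ x ∈ L, f x = x
  | [], _, x, hx => by simp at hx
  | a :: L, h, x, hx => by
    rw [List.map_cons, List.cons.injEq] at h
    rcases List.mem_cons.1 hx with rfl | hx'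
    · exact h.1
    · exact map_eq_self_mem f L h.2 x hx'

theorem fixed_letter {K : Type u} [Group K] {I : Type u} (Q : I → Subgroup K) (i : I) (a r : K)
    (h : r • (⟨i, (a : K ⧸ Q i)⟩ : Y Q) = ⟨i, (a : K ⧸ Q i)⟩) : a⁻¹ * r * a ∈ Q i := by
  rw [Sigma.smul_mk] at h
  have h1 := eq_of_heq (Sigma.mk.inj_iff.1 h).2
  have h2 : ((r * a : K) : K ⧸ Q i) = (a : K ⧸ Q i) := h1
  have h3 := QuotientGroup.eq.1 h2.symm
  rwa [← mul_assoc] at h3

theorem chain_aux {K : Type u} [Group K] (S₀ : Subgroup K) {I : Type u}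
    (Q : I → Subgroup K) (sg : I → K) (C : Subgroup K → K → Prop)
    (hS : ∀ R b s, s ∈ S₀ → C R b → C R (b * s))
    (hE : ∀ R i a, (∀ r ∈ R, a⁻¹ * r * a ∈ Q i) → (C R a ↔ C R (a * sg i)))
    (R : Subgroup K) :
    ∀ (L : List (Y Q × Bool)), (∀ l ∈ L, ∀ r ∈ R, r • l.1 = l.1) → ∀ (a k : K), C R a →
      IsPath S₀ Q sg (a : K ⧸ S₀) L (k : K ⧸ S₀) → C R k
  | [], _, a, k, ha, hp => by
    have hp' : (a : K ⧸ S₀) = (k : K ⧸ S₀) := hp
    have h1 : a⁻¹ * k ∈ S₀ := QuotientGroup.eq.1 hp'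
    have h2 := hS R a _ h1 ha
    rwa [mul_inv_cancel_left] at h2
  | (y, true) :: L, hfix, a, k, ha, hp => by
    have hp0 : ∃ v₁, Edge S₀ Q sg y (a : K ⧸ S₀) v₁ ∧ IsPath S₀ Q sg v₁ L (k : K ⧸ S₀) := hp
    obtain ⟨v₁, ⟨i, a', hy, hv, hv₁⟩, hp'⟩ := hp0
    have h1 : a⁻¹ * a' ∈ S₀ := QuotientGroup.eq.1 hv
    have h2 := hS R a _ h1 ha
    rw [mul_inv_cancel_left] at h2
    have h3 : ∀ r ∈ R, a'⁻¹ * r * a' ∈ Q i := fun r hr => by
      have h := hfix (y, true) List.mem_cons_self r hr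
      rw [show ((y, true) : Y Q × Bool).1 = ⟨i, (a' : K ⧸ Q i)⟩ from hy] at h
      exact fixed_letter Q i a' r h
    have h4 := (hE R i a' h3).1 h2
    subst hv₁
    exact chain_aux S₀ Q sg C hS hE R L (fun l hl => hfix l (List.mem_cons_of_mem _ hl))
      (a' * sg i) k h4 hp'
  | (y, false) :: L, hfix, a, k, ha, hp => by
    have hp0 : ∃ v₁, Edge S₀ Q sg y v₁ (a : K ⧸ S₀) ∧ IsPath S₀ Q sg v₁ L (k : K ⧸ S₀) := hp
    obtain ⟨v₁, ⟨i, a', hy, hv₁, hv⟩, hp'⟩ := hp0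
    have h1 : a⁻¹ * (a' * sg i) ∈ S₀ := QuotientGroup.eq.1 hv
    have h2 := hS R a _ h1 ha
    rw [mul_inv_cancel_left] at h2
    have h3 : ∀ r ∈ R, a'⁻¹ * r * a' ∈ Q i := fun r hr => by
      have h := hfix (y, false) List.mem_cons_self r hr
      rw [show ((y, false) : Y Q × Bool).1 = ⟨i, (a' : K ⧸ Q i)⟩ from hy] at h
      exact fixed_letter Q i a' r h
    have h4 := (hE R i a' h3).2 h2
    subst hv₁
    exact chain_aux S₀ Q sg C hS hE R L (fun l hl => hfix l (List.mem_cons_of_mem _ hl))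
      a' k h4 hp'

theorem main (hRed : RedP.{u}) (hIso : IsoP.{u}) : ChainP.{u} := by
  intro K _ S₀ I Q sg h1 h2 C hC1 hCS hCE g hg R hR
  haveI : DecidableEq (Y Q) := Classical.decEq _
  have hpath := hRed S₀ Q sg h1 h2 g hg
  have hfix : ∀ l ∈ FreeGroup.toWord g.left, ∀ r ∈ R, r • l.1 = l.1 := by
    intro l hl r hr
    have h3 := hIso (MulAction.toPerm r : Equiv.Perm (Y Q)) g.left
    have h4 : FreeGroup.freeGroupCongr (MulAction.toPerm r) g.left = g.left := hR r hr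
    rw [h4] at h3
    have h5 := map_eq_self_mem _ _ h3.symm l hl
    have h6 := congrArg Prod.fst h5
    exact h6
  exact chain_aux S₀ Q sg C hCS hCE R _ hfix 1 g.right (hC1 R) hpath

end Cfsg.Agent.Lib.Helper57.VFCHAIN
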