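import Mathlib
import Cfsg.Agent.Lib.Helper74.WinStmt

set_option autoImplicit false

/-! Piece CENT of S4467 (Winter): `U` a normal `q`-subgroup with central commutators, `x` a
`p`-element, `p ≠ q`: the centre of `C_U(x)` is contained in the centre of `U`. -/

namespace Cfsg.Agent.Lib.Helper57.WinCENT

open Cfsg

universe u

theorem main : Cfsg.Agent.Lib.Helper74.WinStmt.Cent.{u} := by
  intro G _ _ p q hp hq hpq U hU hUq hcomm x hx z hzU hxz hzc u huU
  obtain ⟨l, hl⟩ := hx ⟨x, Subgroup.mem_zpowers x⟩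
  have hxm : x ^ (p ^ l) = 1 := by
    have h := congrArg Subtype.val hl
    simpa using h
  obtain ⟨m, hm⟩ : ∃ m, m = p ^ l := ⟨_, rfl⟩
  rw [← hm] at hxm
  -- `q`-elements of `U` killed by `m` are trivial
  have hkill : ∀ c ∈ U, c ^ m = 1 → c = 1 := by
    intro c hc hcm
    obtain ⟨j, hj⟩ := hUq ⟨c, hc⟩
    have hcq : c ^ (q ^ j) = 1 := by
      have h := congrArg Subtype.val hj
      simpa using h
    have h1 : c ^ Nat.gcd m (q ^ j) = 1 := pow_gcd_eq_one.mpr ⟨hcm, hcq⟩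
    have hcop : Nat.gcd (p ^ l) (q ^ j) = 1 :=
      Nat.Coprime.pow _ _ ((Nat.coprime_primes hp hq).mpr hpq)
    rw [hm, hcop, pow_one] at h1
    exact h1
  have hconjU : ∀ k : ℕ, ∀ a ∈ U, x ^ k * a * (x ^ k)⁻¹ ∈ U :=
    fun k a ha => hU.conj_mem a ha (x ^ k)
  -- the partial products
  obtain ⟨W, hW⟩ : ∃ W : ℕ → G,
      W = fun k => ((List.range k).map (fun i => x ^ i * u * (x ^ i)⁻¹)).prod := ⟨_, rfl⟩
  have hW0 : W 0 = 1 := by
    rw [hW]
    simp
  have hWs : ∀ k, W (k + 1) = W k * (x ^ k * u * (x ^ k)⁻¹) := by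
    intro k
    rw [hW]
    simp [List.range_succ]
  have hWU : ∀ k, W k ∈ U := by
    intro k
    induction k with
    | zero =>
      rw [hW0]
      exact U.one_mem
    | succ k ih =>
      rw [hWs]
      exact U.mul_mem ih (hconjU k u huU)
  have hshift : ∀ k, x * W k * x⁻¹ = u⁻¹ * W (k + 1) := by
    intro k
    induction k with
    | zero =>
      rw [hWs, hW0]
      simp
    | succ k ih =>
      have hC : x * (x ^ k * u * (x ^ k)⁻¹) * x⁻¹ = x ^ (k + 1) * u * (x ^ (k + 1))⁻¹ := by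
        rw [pow_succ']
        group
      calc x * W (k + 1) * x⁻¹
          = (x * W k * x⁻¹) * (x * (x ^ k * u * (x ^ k)⁻¹) * x⁻¹) := by
            rw [hWs k]
            group
        _ = u⁻¹ * W (k + 1) * (x ^ (k + 1) * u * (x ^ (k + 1))⁻¹) := by rw [ih, hC]
        _ = u⁻¹ * W (k + 1 + 1) := by rw [hWs (k + 1), mul_assoc]
  obtain ⟨w, hw⟩ : ∃ w, w = W m := ⟨_, rfl⟩
  have hwU : w ∈ U := by
    rw [hw]
    exact hWU m
  have hxw : x * w * x⁻¹ = u⁻¹ * w * u := by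
    rw [hw, hshift m, hWs m, hxm]
    simp [mul_assoc]
  -- the correction term
  obtain ⟨c, hc⟩ : ∃ c, c = w⁻¹ * u⁻¹ * w * u := ⟨_, rfl⟩
  have hcZ : c ∈ Subgroup.center G := by
    have h := hcomm w⁻¹ (U.inv_mem hwU) u⁻¹ (U.inv_mem huU)
    rw [inv_inv, inv_inv] at h
    rw [hc]
    exact h
  have hcU : c ∈ U := by
    rw [hc]
    exact U.mul_mem (U.mul_mem (U.mul_mem (U.inv_mem hwU) (U.inv_mem huU)) hwU) huU
  have hxwc : x * w * x⁻¹ = w * c := by
    rw [hxw, hc]
    group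
  have hci : ∀ i : ℕ, x ^ i * w * (x ^ i)⁻¹ = w * c ^ i := by
    intro i
    induction i with
    | zero => simp
    | succ i ih =>
      have hcc : x * c ^ i * x⁻¹ = c ^ i := by
        have h := Subgroup.mem_center_iff.mp (Subgroup.pow_mem _ hcZ i) x
        rw [h, mul_inv_cancel_right]
      calc x ^ (i + 1) * w * (x ^ (i + 1))⁻¹ = x * (x ^ i * w * (x ^ i)⁻¹) * x⁻¹ := by
            rw [pow_succ']
            group
        _ = (x * w * x⁻¹) * (x * c ^ i * x⁻¹) := by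
            rw [ih]
            group
        _ = w * c ^ (i + 1) := by rw [hxwc, hcc, pow_succ', mul_assoc]
  have hcm : c ^ m = 1 := by
    have h := hci m
    rw [hxm] at h
    simpa using h
  have hc1 : c = 1 := hkill c hcU hcm
  have hxw' : x * w = w * x := by
    rw [hc1, mul_one] at hxwc
    exact mul_inv_eq_iff_eq_mul.mp hxwc
  have hzw : z * w = w * z := hzc w hwU hxw'
  -- the commutator map
  obtain ⟨φ, hφ⟩ : ∃ φ : G → G, φ = fun a => z * a * z⁻¹ * a⁻¹ := ⟨_, rfl⟩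
  have hφa : ∀ a, φ a = z * a * z⁻¹ * a⁻¹ := fun a => by rw [hφ]
  have hφZ : ∀ a ∈ U, φ a ∈ Subgroup.center G := fun a ha => by
    rw [hφa]
    exact hcomm z hzU a ha
  have hφU : ∀ a ∈ U, φ a ∈ U := fun a ha => by
    rw [hφa]
    exact U.mul_mem (U.mul_mem (U.mul_mem hzU ha) (U.inv_mem hzU)) (U.inv_mem ha)
  have hφmul : ∀ a ∈ U, ∀ b ∈ U, φ (a * b) = φ a * φ b := by
    intro a ha b hb
    have h := Subgroup.mem_center_iff.mp (hφZ b hb) a
    calc φ (a * b) = φ a * (a * φ b * a⁻¹) := by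
          rw [hφa, hφa, hφa]
          group
      _ = φ a * φ b := by rw [h, mul_inv_cancel_right]
  have hzx : x * z * x⁻¹ = z := by rw [hxz, mul_inv_cancel_right]
  have hφx : ∀ a ∈ U, φ (x * a * x⁻¹) = φ a := by
    intro a ha
    have h := Subgroup.mem_center_iff.mp (hφZ a ha) x
    calc φ (x * a * x⁻¹) = z * (x * a * x⁻¹) * z⁻¹ * (x * a * x⁻¹)⁻¹ := hφa _
      _ = (x * z * x⁻¹) * (x * a * x⁻¹) * (x * z * x⁻¹)⁻¹ * (x * a * x⁻¹)⁻¹ := by rw [hzx]
      _ = x * φ a * x⁻¹ := by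
          rw [hφa]
          group
      _ = φ a := by rw [h, mul_inv_cancel_right]
  have hφpow : ∀ k : ℕ, φ (x ^ k * u * (x ^ k)⁻¹) = φ u := by
    intro k
    induction k with
    | zero => simp
    | succ k ih =>
      have hC : x ^ (k + 1) * u * (x ^ (k + 1))⁻¹ = x * (x ^ k * u * (x ^ k)⁻¹) * x⁻¹ := by
        rw [pow_succ']
        group
      rw [hC, hφx _ (hconjU k u huU), ih]
  have hφW : ∀ k : ℕ, φ (W k) = φ u ^ k := by
    intro k
    induction k with
    | zero =>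
      rw [hW0, hφa]
      simp
    | succ k ih =>
      rw [hWs, hφmul _ (hWU k) _ (hconjU k u huU), ih, hφpow, pow_succ]
  have hφw : φ w = 1 := by
    rw [hφa, hzw]
    group
  have hφu : φ u = 1 := by
    apply hkill _ (hφU u huU)
    rw [← hφW m, ← hw, hφw]
  rw [hφa] at hφu
  have h1 : z * u * z⁻¹ = u := mul_inv_eq_one.mp hφu
  exact mul_inv_eq_iff_eq_mul.mp h1

end Cfsg.Agent.Lib.Helper57.WinCENT
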